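import Groth.Agent.PunctLefLib.Main
import Groth.Agent.S0239
import Groth.Agent.LocCohLib.BaseChange
import Groth.Agent.PurityDescLib.Scheme
import Groth.Agent.AdicRingLib.Completion
import Mathlib.RingTheory.AdicCompletion.LocalRing
import Mathlib.RingTheory.AdicCompletion.Noetherian
import Mathlib.RingTheory.AdicCompletion.AsTensorProduct
import Mathlib.RingTheory.Flat.FaithfullyFlat.Basic

/-!
# Extending a finite étale cover of the punctured spectrum across the closed point
-/

set_option autoImplicit false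
set_option linter.style.haveILetI false
universe u

open CategoryTheory CategoryTheory.Limits AlgebraicGeometry TensorProduct

noncomputable section

namespace PunctLefLib

theorem smul_H_baseChange {A Ah : Type u} [CommRing A] [CommRing Ah] [Algebra A Ah] [Module.Flat A Ah]
    [IsNoetherianRing A] [IsNoetherianRing Ah] (I : Ideal A) (i : ℕ) (a : A)
    (h : ∀ x : LocCoh.H I i A, a • x = 0) (x : LocCoh.H (I.map (algebraMap A Ah)) i Ah) :
    algebraMap A Ah a • x = 0 := by
  let e : Ah ⊗[A] LocCoh.H I i A ≃ₗ[Ah] LocCoh.H (I.map (algebraMap A Ah)) i Ah :=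
    (LocCohLib.tensLcEquiv I A i).trans
      ((localCohomology (I.map (algebraMap A Ah)) i).mapIso
        (LinearEquiv.toModuleIso (TensorProduct.AlgebraTensorModule.rid A Ah Ah))).toLinearEquiv
  obtain ⟨t, rfl⟩ := e.surjective x
  rw [← map_smul]
  convert map_zero e
  induction t using TensorProduct.induction_on with
  | zero => exact smul_zero _
  | tmul b y => rw [algebraMap_smul, ← TensorProduct.tmul_smul, h, TensorProduct.tmul_zero]
  | add b c hb hc => rw [smul_add, hb, hc, add_zero]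

variable {X Y Z : Scheme.{u}}

/-- Restriction along a composite. -/
def restrictComp (f : X ⟶ Y) (g : Y ⟶ Z) (V : FEt.Cat Z) :
    (FEt.restrict f).obj ((FEt.restrict g).obj V) ≅ (FEt.restrict (f ≫ g)).obj V :=
  ((MorphismProperty.Over.pullbackComp (P := FEt.prop.{u}) (Q := ⊤) f g).app V).symm

/-- Restriction along equal morphisms. -/
def restrictCongr {f g : X ⟶ Y} (h : f = g) (V : FEt.Cat Y) :
    (FEt.restrict f).obj V ≅ (FEt.restrict g).obj V :=
  eqToIso (by rw [h])

/-- Two successive restrictions along the sides of a commutative square. -/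
def restrictSq {W : Scheme.{u}} {f : X ⟶ Y} {g : Y ⟶ Z} {f' : X ⟶ W} {g' : W ⟶ Z} (h : f ≫ g = f' ≫ g')
    (V : FEt.Cat Z) :
    (FEt.restrict f).obj ((FEt.restrict g).obj V) ≅ (FEt.restrict f').obj ((FEt.restrict g').obj V) :=
  restrictComp f g V ≪≫ restrictCongr h V ≪≫ (restrictComp f' g' V).symm

variable {A : Type u} [CommRing A] [IsNoetherianRing A] [IsLocalRing A]

theorem extends_of_torsion {f : A} (hf : f ∈ IsLocalRing.maximalIdeal A)
    (h1 : ∃ n : ℕ, ∀ x : LocCoh.H (IsLocalRing.maximalIdeal A) 1 A, (f ^ n) • x = 0)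
    (h2 : ∃ n : ℕ, ∀ x : LocCoh.H (IsLocalRing.maximalIdeal A) 2 A, (f ^ n) • x = 0)
    (V : FEt.Cat (FEt.puncturedSpec A : Scheme.{u}))
    (hV : ∃ Y₀ : FEt.Cat (Spec (CommRingCat.of (A ⧸ Ideal.span {f}))),
      Nonempty ((FEt.restrict (pullback.snd (FEt.puncturedSpec A).ι
        (Spec.map (CommRingCat.ofHom (Ideal.Quotient.mk (Ideal.span {f})))))).obj Y₀ ≅
        (FEt.restrict (pullback.fst (FEt.puncturedSpec A).ι
        (Spec.map (CommRingCat.ofHom (Ideal.Quotient.mk (Ideal.span {f})))))).obj V)) :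
    ∃ Y : FEt.Cat (Spec (CommRingCat.of A)), Nonempty ((FEt.restrict (FEt.puncturedSpec A).ι).obj Y ≅ V) := by
  obtain ⟨Y₀, ⟨e₀⟩⟩ := hV
  let Ah := AdicCompletion (IsLocalRing.maximalIdeal A) A
  have hfg : (IsLocalRing.maximalIdeal A).FG := isNoetherian_def.mp inferInstance _
  haveI : IsNoetherianRing Ah := AdicRingLib.isNoetherianRing_adicCompletion _
  haveI : Module.FaithfullyFlat A Ah := Module.FaithfullyFlat.of_flat_of_isLocalHom
  haveI : HenselianRing Ah (IsLocalRing.maximalIdeal Ah) := IsAdicComplete.henselianRing _ _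
  have hmax : (IsLocalRing.maximalIdeal A).map (algebraMap A Ah) = IsLocalRing.maximalIdeal Ah :=
    (AdicCompletion.maximalIdeal_eq_map (R := A)).symm
  let fh : Ah := algebraMap A Ah f
  have hfh : fh ∈ IsLocalRing.maximalIdeal Ah := hmax ▸ Ideal.mem_map_of_mem _ hf
  haveI : HenselianRing Ah (Ideal.span {fh}) :=
    HenselLib.henselianRing_of_le ((Ideal.span_singleton_le_iff_mem _).2 hfh)
  have hk : ∀ i, (∃ n : ℕ, ∀ x : LocCoh.H (IsLocalRing.maximalIdeal A) i A, (f ^ n) • x = 0) →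
      ∃ n : ℕ, ∀ x : LocCoh.H (IsLocalRing.maximalIdeal Ah) i Ah, (fh ^ n) • x = 0 := fun i ⟨n, hn⟩ => by
    refine ⟨n, ?_⟩
    rw [← hmax]
    intro x
    rw [← map_pow]
    exact smul_H_baseChange _ i _ hn x
  obtain ⟨hfull, hfaith⟩ := fullFaithful hfh (hk 1 h1) (hk 2 h2)
  let g : Spec (CommRingCat.of Ah) ⟶ Spec (CommRingCat.of A) := Spec.map (CommRingCat.ofHom (algebraMap A Ah))
  let U := FEt.puncturedSpec A
  let Uh := FEt.puncturedSpec Ah
  have hg : ∀ t : PrimeSpectrum Ah, PrimeSpectrum.comap (algebraMap A Ah) t = IsLocalRing.closedPoint A ↔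
      t = IsLocalRing.closedPoint Ah := fun t => by
    constructor
    · intro h
      refine PrimeSpectrum.ext ((IsLocalRing.maximalIdeal.isMaximal Ah).eq_of_le t.isPrime.ne_top ?_).symm
      rw [← hmax, Ideal.map_le_iff_le_comap]
      exact (congrArg PrimeSpectrum.asIdeal h).ge
    · rintro rfl
      exact IsLocalRing.comap_closedPoint (algebraMap A Ah)
  let r : (Uh : Scheme.{u}) ⟶ (U : Scheme.{u}) := IsOpenImmersion.lift U.ι (Uh.ι ≫ g) (by
    rintro _ ⟨t, rfl⟩
    rw [Scheme.Opens.range_ι]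
    intro h
    exact t.2 ((hg _).1 h))
  have hr : r ≫ U.ι = Uh.ι ≫ g := IsOpenImmersion.lift_fac _ _ _
  let θ : pullback U.ι g ⟶ (Uh : Scheme.{u}) := IsOpenImmersion.lift Uh.ι (pullback.snd U.ι g) (by
    rintro _ ⟨t, rfl⟩
    rw [Scheme.Opens.range_ι]
    intro h
    refine (pullback.fst U.ι g t).2 ?_
    show U.ι (pullback.fst U.ι g t) ∈ _
    rw [← Scheme.Hom.comp_apply, pullback.condition, Scheme.Hom.comp_apply]
    exact (hg _).2 h)
  have hθ : θ ≫ Uh.ι = pullback.snd U.ι g := IsOpenImmersion.lift_fac _ _ _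
  have hθr : θ ≫ r = pullback.fst U.ι g := by
    rw [← cancel_mono U.ι, Category.assoc, hr, ← Category.assoc, hθ, pullback.condition]
  let mk : Spec (CommRingCat.of (A ⧸ Ideal.span {f})) ⟶ Spec (CommRingCat.of A) :=
    Spec.map (CommRingCat.ofHom (Ideal.Quotient.mk (Ideal.span {f})))
  let mkh : Spec (CommRingCat.of (Ah ⧸ Ideal.span {fh})) ⟶ Spec (CommRingCat.of Ah) :=
    Spec.map (CommRingCat.ofHom (Ideal.Quotient.mk (Ideal.span {fh})))
  let ψ : A ⧸ Ideal.span {f} →+* Ah ⧸ Ideal.span {fh} := Ideal.quotientMap _ (algebraMap A Ah) (by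
    rw [Ideal.span_singleton_le_iff_mem]
    exact Ideal.mem_span_singleton_self fh)
  let q : Spec (CommRingCat.of (Ah ⧸ Ideal.span {fh})) ⟶ Spec (CommRingCat.of (A ⧸ Ideal.span {f})) :=
    Spec.map (CommRingCat.ofHom ψ)
  have hq : q ≫ mk = mkh ≫ g := by
    simp only [q, mk, mkh, g, ← Spec.map_comp, ← CommRingCat.ofHom_comp]
    rfl
  let jh := pullback.fst Uh.ι mkh
  let ih := pullback.snd Uh.ι mkh
  let w : pullback Uh.ι mkh ⟶ pullback U.ι mk := pullback.lift (jh ≫ r) (ih ≫ q) (by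
    rw [Category.assoc, hr, ← Category.assoc, pullback.condition, Category.assoc, Category.assoc, hq])
  haveI := Groth.Agent.S0239.result Ah (Ideal.span {fh})
  let Y' : FEt.Cat (Spec (CommRingCat.of Ah)) := (FEt.restrict mkh).objPreimage ((FEt.restrict q).obj Y₀)
  let eY : (FEt.restrict mkh).obj Y' ≅ (FEt.restrict q).obj Y₀ := (FEt.restrict mkh).objObjPreimageIso _
  let e₁ : (FEt.restrict jh).obj ((FEt.restrict Uh.ι).obj Y') ≅ (FEt.restrict jh).obj ((FEt.restrict r).obj V) :=
    restrictSq pullback.condition Y' ≪≫ (FEt.restrict ih).mapIso eY ≪≫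
      restrictSq (pullback.lift_snd _ _ _).symm Y₀ ≪≫ (FEt.restrict w).mapIso e₀ ≪≫
      restrictSq (pullback.lift_fst _ _ _) V
  haveI := hfull
  haveI := hfaith
  let e₂ : (FEt.restrict Uh.ι).obj Y' ≅ (FEt.restrict r).obj V := (FEt.restrict jh).preimageIso e₁
  refine PurityDescLib.extends_of_extends (IsLocalRing.maximalIdeal A) U
    (fun k c => AdicRingLib.exists_sub_mem_map_pow hfg k c) (fun a ha => ?_) V Y'
    (restrictCongr hθ.symm Y' ≪≫ (restrictComp θ Uh.ι Y').symm ≪≫ (FEt.restrict θ).mapIso e₂ ≪≫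
      restrictComp θ r V ≪≫ restrictCongr hθr V)
  intro x hx
  rintro (rfl : x = IsLocalRing.closedPoint A)
  rw [basicOpen_eq_of_affine] at hx
  exact hx ha

end PunctLefLib
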