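import Mathlib

/-!
# The associated graded of the maximal ideal stays free after a flat local base change
-/

set_option autoImplicit false
set_option linter.style.haveILetI false
universe u

open TensorProduct

noncomputable section

namespace PunctLefLib

variable {A B : Type u} [CommRing A] [CommRing B] [IsLocalRing A] [Algebra A B] [Module.Flat A B]

theorem free_gr_map (n : ℕ) :
    Module.Free (B ⧸ (IsLocalRing.maximalIdeal A).map (algebraMap A B))
      (↥((IsLocalRing.maximalIdeal A).map (algebraMap A B) ^ n) ⧸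
        ((IsLocalRing.maximalIdeal A).map (algebraMap A B) •
          (⊤ : Submodule B ↥((IsLocalRing.maximalIdeal A).map (algebraMap A B) ^ n)))) := by
  set m := IsLocalRing.maximalIdeal A with hm
  set J := m.map (algebraMap A B) with hJ
  let N : Ideal A := m ^ n
  let φ : B ⊗[A] ↥N →ₗ[B] B :=
    (TensorProduct.AlgebraTensorModule.rid A B B).toLinearMap.comp
      (TensorProduct.AlgebraTensorModule.lTensor B B N.subtype)
  have hφ : Function.Injective φ :=
    (TensorProduct.AlgebraTensorModule.rid A B B).injective.comp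
      (Module.Flat.lTensor_preserves_injective_linearMap (M := B) N.subtype Subtype.val_injective)
  have hrange : LinearMap.range φ = J ^ n := by
    rw [hJ, ← Ideal.map_pow]
    refine le_antisymm ?_ (Ideal.span_le.2 ?_)
    · rintro _ ⟨t, rfl⟩
      induction t using TensorProduct.induction_on with
      | zero => rw [map_zero]; exact zero_mem _
      | tmul b k =>
        show (k : A) • b ∈ _
        rw [Algebra.smul_def]
        exact Ideal.mul_mem_right _ _ (Ideal.mem_map_of_mem _ k.2)
      | add a b ha hb => rw [map_add]; exact add_mem ha hb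
    · rintro _ ⟨a, ha, rfl⟩
      exact ⟨1 ⊗ₜ ⟨a, ha⟩, (Algebra.algebraMap_eq_smul_one a).symm⟩
  let e : B ⊗[A] ↥N ≃ₗ[B] ↥(J ^ n) := (LinearEquiv.ofInjective φ hφ).trans (LinearEquiv.ofEq _ _ hrange)
  letI : Algebra (A ⧸ m) (B ⧸ J) := (Ideal.quotientMap J (algebraMap A B) Ideal.le_comap_map).toAlgebra
  haveI : IsScalarTower A (A ⧸ m) (B ⧸ J) := IsScalarTower.of_algebraMap_eq fun _ => rfl
  haveI : m.IsMaximal := IsLocalRing.maximalIdeal.isMaximal A
  letI : Field (A ⧸ m) := Ideal.Quotient.field m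
  haveI : Module.Free (A ⧸ m) ((A ⧸ m) ⊗[A] ↥N) := Module.Free.of_divisionRing _ _
  haveI : Module.Free (B ⧸ J) ((B ⧸ J) ⊗[A] ↥N) :=
    Module.Free.of_equiv (TensorProduct.AlgebraTensorModule.cancelBaseChange A (A ⧸ m) (B ⧸ J) (B ⧸ J) ↥N)
  let e₁ : (B ⧸ J) ⊗[A] ↥N ≃ₗ[B ⧸ J] (B ⧸ J) ⊗[B] ↥(J ^ n) :=
    (TensorProduct.AlgebraTensorModule.cancelBaseChange A B (B ⧸ J) (B ⧸ J) ↥N).symm.trans
      (TensorProduct.AlgebraTensorModule.congr (LinearEquiv.refl _ _) e)
  haveI : Module.Free (B ⧸ J) ((B ⧸ J) ⊗[B] ↥(J ^ n)) := Module.Free.of_equiv e₁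
  exact Module.Free.of_equiv
    (LinearEquiv.extendScalarsOfSurjective Ideal.Quotient.mk_surjective (TensorProduct.quotTensorEquivQuotSMul ↥(J ^ n) J))

end PunctLefLib
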