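import Groth.Agent.PunctLefLib.Idem
import Groth.Agent.ClopenFFLib.AppBij

/-!
# Clopen subsets of the cover and of its trace on the hypersurface
-/

set_option autoImplicit false
set_option linter.style.haveILetI false
universe u

open CategoryTheory AlgebraicGeometry Opposite TopologicalSpace

noncomputable section

namespace PunctLefLib

variable {W P : Scheme.{u}} (h : P ⟶ W) {U : W.Opens} (hU : IsAffineOpen U) (a : Γ(W, U))

theorem fromSpec_mem_basicOpen (y : Γ(W, U)) (t : PrimeSpectrum Γ(W, U)) :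
    hU.fromSpec t ∈ W.basicOpen y ↔ y ∉ t.asIdeal := by
  rw [← Scheme.Hom.mem_preimage, hU.fromSpec_preimage_basicOpen]
  exact Iff.rfl

theorem exists_fromSpec_eq {w : W} (hw : w ∈ U) : ∃ t : PrimeSpectrum Γ(W, U), hU.fromSpec t = w := by
  have : w ∈ Set.range hU.fromSpec := by rw [hU.range_fromSpec]; exact hw
  exact this

include hU in
theorem exists_idem_local (hh : Topology.IsEmbedding h.base) (hr : ∀ w ∈ U, w ∈ Set.range h ↔ w ∉ W.basicOpen a)
    (C' : Clopens P) :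
    ∃ y : Γ(W, U), (∃ c, a * c = y * y - y) ∧ ∀ z : P, h z ∈ U → (z ∈ C' ↔ h z ∈ W.basicOpen y) := by
  let I : Ideal Γ(W, U) := Ideal.span {a}
  let φ : PrimeSpectrum (Γ(W, U) ⧸ I) → W := fun t => hU.fromSpec (PrimeSpectrum.comap (Ideal.Quotient.mk I) t)
  have hφc : Continuous φ := hU.fromSpec.continuous.comp (PrimeSpectrum.continuous_comap _)
  have hφ : ∀ t, φ t ∈ Set.range h := fun t => by
    have hmem : φ t ∈ U := by
      rw [← SetLike.mem_coe, ← hU.range_fromSpec]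
      exact ⟨_, rfl⟩
    refine (hr _ hmem).2 fun hn => (fromSpec_mem_basicOpen hU a _).1 hn ?_
    show Ideal.Quotient.mk I a ∈ t.asIdeal
    rw [Ideal.Quotient.eq_zero_iff_mem.2 (Ideal.mem_span_singleton_self a)]
    exact zero_mem _
  let q : PrimeSpectrum (Γ(W, U) ⧸ I) → P := fun t => (hφ t).choose
  have hq : ∀ t, h (q t) = φ t := fun t => (hφ t).choose_spec
  have hqc : Continuous q := hh.isInducing.continuous_iff.2 (by
    rw [show h.base ∘ q = φ from funext hq]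
    exact hφc)
  obtain ⟨e, he, hes⟩ := PrimeSpectrum.isClopen_iff.1 (C'.isClopen.preimage hqc)
  obtain ⟨y, rfl⟩ := Ideal.Quotient.mk_surjective e
  refine ⟨y, ?_, fun z hz => ?_⟩
  · have h1 : y * y - y ∈ I := Ideal.Quotient.eq.1 (by rw [map_mul]; exact he)
    obtain ⟨c, hc⟩ := Ideal.mem_span_singleton'.1 h1
    exact ⟨c, by rw [mul_comm]; exact hc⟩
  · obtain ⟨t, ht⟩ := exists_fromSpec_eq hU hz
    have hat : a ∈ t.asIdeal := by
      by_contra hn
      exact (hr _ hz).1 ⟨z, rfl⟩ (ht ▸ (fromSpec_mem_basicOpen hU a t).2 hn)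
    obtain ⟨t', rfl⟩ : ∃ t', PrimeSpectrum.comap (Ideal.Quotient.mk I) t' = t := by
      have : t ∈ Set.range (PrimeSpectrum.comap (Ideal.Quotient.mk I)) := by
        rw [range_comap_of_surjective _ _ Ideal.Quotient.mk_surjective, Ideal.mk_ker, PrimeSpectrum.mem_zeroLocus]
        exact (Ideal.span_singleton_le_iff_mem _).2 hat
      exact this
    have hzt : q t' = z := hh.injective ((hq t').trans ht)
    rw [← ht, fromSpec_mem_basicOpen]
    exact (hzt ▸ Iff.rfl : z ∈ C' ↔ q t' ∈ C').trans (Set.ext_iff.1 hes t')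

include hU in
theorem exists_sub_eq_mul {y₁ y₂ : Γ(W, U)} (h₁ : ∃ c, a * c = y₁ * y₁ - y₁) (h₂ : ∃ c, a * c = y₂ * y₂ - y₂)
    (heq : ∀ w ∈ U, w ∉ W.basicOpen a → (w ∈ W.basicOpen y₁ ↔ w ∈ W.basicOpen y₂)) :
    ∃ c, a * c = y₁ - y₂ := by
  let I : Ideal Γ(W, U) := Ideal.span {a}
  have hid : ∀ y : Γ(W, U), (∃ c, a * c = y * y - y) → IsIdempotentElem (Ideal.Quotient.mk I y) := fun y ⟨c, hc⟩ => by
    show _ = _
    rw [← map_mul, Ideal.Quotient.eq, ← hc]
    exact Ideal.mul_mem_right _ _ (Ideal.mem_span_singleton_self a)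
  have h3 : Ideal.Quotient.mk I y₁ = Ideal.Quotient.mk I y₂ := by
    refine PrimeSpectrum.basicOpen_injOn_isIdempotentElem (hid _ h₁) (hid _ h₂) ?_
    ext t
    have hat : a ∈ (PrimeSpectrum.comap (Ideal.Quotient.mk I) t).asIdeal := by
      show Ideal.Quotient.mk I a ∈ t.asIdeal
      rw [Ideal.Quotient.eq_zero_iff_mem.2 (Ideal.mem_span_singleton_self a)]
      exact zero_mem _
    have hmem : hU.fromSpec (PrimeSpectrum.comap (Ideal.Quotient.mk I) t) ∈ U := by
      rw [← SetLike.mem_coe, ← hU.range_fromSpec]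
      exact ⟨_, rfl⟩
    have h4 := heq _ hmem (fun hn => (fromSpec_mem_basicOpen hU a _).1 hn hat)
    rw [fromSpec_mem_basicOpen, fromSpec_mem_basicOpen] at h4
    exact h4
  obtain ⟨c, hc⟩ := Ideal.mem_span_singleton'.1 (Ideal.Quotient.eq.1 h3)
  exact ⟨c, by rw [mul_comm]; exact hc⟩

theorem isClopen_basicOpen_idem {Y : Scheme.{u}} {e : Γ(Y, ⊤)} (he : IsIdempotentElem e) :
    IsClopen (Y.basicOpen e : Set Y) := by
  refine ⟨⟨?_⟩, (Y.basicOpen e).2⟩
  convert (Y.basicOpen (1 - e)).2 using 1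
  ext y
  constructor
  · intro hy
    by_contra hn
    have h1 := (Y.evaluation_eq_zero_iff_notMem_basicOpen (U := ⊤) y trivial (1 - e)).mpr hn
    have h2 := (Y.evaluation_eq_zero_iff_notMem_basicOpen (U := ⊤) y trivial e).mpr hy
    rw [map_sub, map_one, h2, sub_zero] at h1
    exact one_ne_zero h1
  · intro hy hy'
    have h3 : y ∈ Y.basicOpen e ⊓ Y.basicOpen (1 - e) := ⟨hy', hy⟩
    rw [← Scheme.basicOpen_mul, mul_sub, mul_one, he.eq, sub_self, Scheme.basicOpen_zero] at h3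
    exact h3

open KoszLcLib

variable {A : Type u} [CommRing A] [IsNoetherianRing A] {r : ℕ} (f : Fin r → A) [Algebra A Γ(W, ⊤)]
  [CompactSpace W] [QuasiSeparatedSpace W]
  (hcov : ⨆ i, W.basicOpen (algebraMap A Γ(W, ⊤) (f i)) = ⊤)
  (haff : ∀ (p : ℕ) (J : Fin (p + 1) → Fin r), IsAffineOpen (D f W J))
  (hfin : ∀ i, Module.Finite (Localization (Submonoid.powers (f i))) (LocalizedModule (Submonoid.powers (f i)) Γ(W, ⊤)))
  (hproj : ∀ i, Module.Projective (Localization (Submonoid.powers (f i)))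
    (LocalizedModule (Submonoid.powers (f i)) Γ(W, ⊤)))
  {x : A} (hx : x ∈ (Ideal.span (Set.range f)).radical)
  (h₁ : ∃ n, Kills f (x ^ n) 0 A) (h₂ : ∃ n, Kills f (x ^ n) 1 A) [HenselianRing A (Ideal.span {x})]

omit [IsNoetherianRing A] [CompactSpace W] [QuasiSeparatedSpace W] [HenselianRing A (Ideal.span {x})] in
theorem mem_basicOpen_toD {p : ℕ} (J : Fin p → Fin r) (z : Γ(W, ⊤)) {w : W} (hw : w ∈ D f W J) :
    w ∈ W.basicOpen (toD f W J z) ↔ w ∈ W.basicOpen z := by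
  rw [Scheme.basicOpen_res]
  exact ⟨fun h => h.2, fun h => ⟨hw, h⟩⟩

include hcov haff hfin hproj hx h₁ h₂ in
/-- **Clopen subsets of the trace extend uniquely.** -/
theorem existsUnique_clopen (hh : Topology.IsEmbedding h.base)
    (hr : ∀ w, w ∈ Set.range h ↔ w ∉ W.basicOpen (algebraMap A Γ(W, ⊤) x)) (C' : Clopens P) :
    ∃! C : Clopens W, h.base ⁻¹' (C : Set W) = C' := by
  have hrJ : ∀ {p : ℕ} (J : Fin p → Fin r), ∀ w ∈ D f W J,
      (w ∈ Set.range h ↔ w ∉ W.basicOpen (algebraMap A Γ(W, D f W J) x)) := fun J w hw =>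
    (hr w).trans (not_congr (mem_basicOpen_toD f J _ hw).symm)
  choose y hy hyC using fun J : Fin 1 → Fin r => exists_idem_local h (haff 0 J) _ hh (hrJ J) C'
  have hd : ∀ J, ∃ c, x • c = dS f W 1 y J := fun J => by
    simp only [Algebra.smul_def]
    rw [dS_one]
    refine exists_sub_eq_mul (haff 1 J) _ ?_ ?_ fun w hw hwa => ?_
    · obtain ⟨c, hc⟩ := hy (J ∘ (0 : Fin 2).succAbove)
      refine ⟨resF f W J 0 c, ?_⟩
      rw [← Algebra.smul_def, ← map_smul, Algebra.smul_def, hc, map_sub, resF_mul]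
    · obtain ⟨c, hc⟩ := hy (J ∘ (1 : Fin 2).succAbove)
      refine ⟨resF f W J 1 c, ?_⟩
      rw [← Algebra.smul_def, ← map_smul, Algebra.smul_def, hc, map_sub, resF_mul]
    · obtain ⟨z, rfl⟩ := (hrJ J w hw).2 hwa
      simp only [resF_apply, Scheme.basicOpen_res]
      have h0 := hyC _ z (D_le_face f W J 0 hw)
      have h1 := hyC _ z (D_le_face f W J 1 hw)
      exact ⟨fun h2 => ⟨hw, h1.1 (h0.2 h2.2)⟩, fun h2 => ⟨hw, h0.1 (h1.2 h2.2)⟩⟩
  obtain ⟨e, he, hey⟩ := exists_idempotent f W hcov hfin hproj hx h₁ h₂ y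
    (fun J => by simpa only [Algebra.smul_def] using hy J) hd
  have hmem : ∀ z : P, ∃ J : Fin 1 → Fin r, h z ∈ D f W J := fun z => by
    have := (iSup_D f W hcov).ge (Set.mem_univ (h z))
    exact Opens.mem_iSup.1 this
  have key : ∀ z : P, z ∈ C' ↔ h z ∈ W.basicOpen e := fun z => by
    obtain ⟨J, hJ⟩ := hmem z
    rw [hyC J z hJ, ← mem_basicOpen_toD f J e hJ]
    obtain ⟨t, ht⟩ := exists_fromSpec_eq (haff 0 J) hJ
    rw [← ht, fromSpec_mem_basicOpen, fromSpec_mem_basicOpen]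
    obtain ⟨c, hc⟩ := hey J
    have hxt : algebraMap A Γ(W, D f W J) x ∈ t.asIdeal := by
      by_contra hn
      exact (hrJ J _ hJ).1 ⟨z, rfl⟩ (ht ▸ (fromSpec_mem_basicOpen (haff 0 J) _ t).2 hn)
    rw [Algebra.smul_def] at hc
    have hsub : toD f W J e - y J ∈ t.asIdeal := hc ▸ t.asIdeal.mul_mem_right c hxt
    refine not_congr ⟨fun h' => ?_, fun h' => ?_⟩
    · simpa using t.asIdeal.add_mem hsub h'
    · simpa using t.asIdeal.sub_mem h' hsub
  refine ⟨⟨W.basicOpen e, isClopen_basicOpen_idem he⟩, Set.ext fun z => (key z).symm, fun C₂ hC₂ => ?_⟩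
  obtain ⟨e₂, he₂, he₂C⟩ := exists_idem' C₂.isClopen
  have hsame : ∀ z : P, h z ∈ W.basicOpen e₂ ↔ h z ∈ W.basicOpen e := fun z => by
    rw [← SetLike.mem_coe, he₂C, ← key z]
    exact Set.ext_iff.1 hC₂ z
  have hzero : ∀ d d' : Γ(W, ⊤), IsIdempotentElem d → IsIdempotentElem d' →
      (∀ z : P, h z ∈ W.basicOpen d ↔ h z ∈ W.basicOpen d') → d * (1 - d') = 0 := fun d d' hd hd' hdd => by
    refine idempotent_eq_zero f W hcov hfin hproj hx h₁ h₂ (hd.mul hd'.one_sub) fun J => ?_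
    simp only [Algebra.smul_def]
    refine (exists_sub_eq_mul (haff 0 J) _ (y₂ := 0) ⟨0, ?_⟩ ⟨0, by simp⟩ fun w hw hwa => ?_).imp
      fun c hc => hc.trans (sub_zero _)
    · rw [mul_zero, ← map_mul, (hd.mul hd'.one_sub).eq, sub_self]
    · obtain ⟨z, rfl⟩ := (hrJ J w hw).2 hwa
      rw [mem_basicOpen_toD f J _ hw, Scheme.basicOpen_mul, Scheme.basicOpen_zero]
      refine iff_of_false (fun hw2 => ?_) (fun hw2 => hw2)
      have h5 : h z ∈ W.basicOpen d' ⊓ W.basicOpen (1 - d') := ⟨(hdd z).1 hw2.1, hw2.2⟩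
      rw [← Scheme.basicOpen_mul, mul_sub, mul_one, hd'.eq, sub_self, Scheme.basicOpen_zero] at h5
      exact h5
  have : e₂ = e := by
    linear_combination hzero e₂ e he₂ he hsame - hzero e e₂ he he₂ fun z => (hsame z).symm
  refine SetLike.coe_injective ?_
  rw [← he₂C, this]
  rfl
where
  exists_idem' {Y : Scheme.{u}} {V : Set Y} (hV : IsClopen V) :
      ∃ e : Γ(Y, ⊤), IsIdempotentElem e ∧ (Y.basicOpen e : Set Y) = V := ClopenFFLib.exists_idem hV

end PunctLefLib
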