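import Groth.Agent.PunctLefLib.Clopen
import Groth.Agent.KoszLcLib.Compare
import Groth.Prelude.Def_FEt

/-!
# Full faithfulness of restriction to the trace of a hypersurface on a punctured spectrum
-/

set_option autoImplicit false
set_option linter.style.haveILetI false
universe u

open CategoryTheory CategoryTheory.Limits AlgebraicGeometry Opposite TopologicalSpace

noncomputable section

namespace PunctLefLib

open KoszLcLib KoszLib

variable {A : Type u} [CommRing A] [IsNoetherianRing A]

theorem kills_of_smul_H (fs : List A) (I : Ideal A) (hI : Ideal.span {a | a ∈ fs} = I) {g : A} {p : ℕ}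
    (h : ∀ y : LocCoh.H I (p + 1) A, g • y = 0) : Kills fs.get g p A := fun c hc => by
  obtain ⟨e₀⟩ := nonempty_H_equiv fs I hI A (p + 1)
  let e : LocCoh.H I (p + 1) A ≃ₗ[A] (sys fs.get A).HQ (p + 1) := e₀.trans (limEquiv fs (ModuleCat.of A A) (p + 1))
  obtain ⟨y, hy⟩ := e.surjective (Submodule.Quotient.mk (⟨c, hc⟩ : (sys fs.get A).ZQ (p + 1)))
  have h1 : g • (Submodule.Quotient.mk (⟨c, hc⟩ : (sys fs.get A).ZQ (p + 1)) : (sys fs.get A).HQ (p + 1)) = 0 := by
    rw [← hy, ← map_smul, h y, map_zero]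
  rw [← Submodule.Quotient.mk_smul, Submodule.Quotient.mk_eq_zero] at h1
  exact h1

/-- The basic open subset. -/
abbrev bo (a : A) : (Spec (CommRingCat.of A)).Opens := PrimeSpectrum.basicOpen a

theorem isAffineOpen_bo (a : A) : IsAffineOpen (bo a) := by
  have h : bo a = (Spec (CommRingCat.of A)).basicOpen ((Scheme.ΓSpecIso (CommRingCat.of A)).inv a) :=
    (basicOpen_eq_of_affine (R := CommRingCat.of A) a).symm
  exact h ▸ (isAffineOpen_top _).basicOpen _

theorem appTop_map_eq {X U' W' : Scheme.{u}} (ι : U' ⟶ X) (q : W' ⟶ U') {R : CommRingCat.{u}} (γ : R ⟶ Γ(X, ⊤))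
    (B : X.Opens) (O : W'.Opens) (hO : O ≤ q ⁻¹ᵁ (ι ⁻¹ᵁ B)) :
    (γ ≫ (q ≫ ι).appTop) ≫ W'.presheaf.map (homOfLE le_top).op =
      (γ ≫ X.presheaf.map (homOfLE le_top).op) ≫ ι.app B ≫ q.appLE (ι ⁻¹ᵁ B) O hO := by
  simp only [Category.assoc, Scheme.Hom.appTop, Scheme.Hom.app_eq_appLE, Scheme.Hom.appLE_map,
    Scheme.Hom.appLE_comp_appLE, Scheme.Hom.map_appLE]
  erw [Scheme.Hom.appLE_map]

variable {U : (Spec (CommRingCat.of A)).Opens} {W : Scheme.{u}} (q : W ⟶ (U : Scheme.{u}))

/-- The scalars. -/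
@[reducible] def scalAlg : Algebra A Γ(W, ⊤) :=
  ((Scheme.ΓSpecIso (CommRingCat.of A)).inv ≫ (q ≫ U.ι).appTop).hom.toAlgebra

theorem preimage_basicOpen_eq (a : A) :
    letI := scalAlg q
    W.basicOpen (algebraMap A Γ(W, ⊤) a) = (q ≫ U.ι) ⁻¹ᵁ bo a := by
  letI := scalAlg q
  have h : bo a = (Spec (CommRingCat.of A)).basicOpen ((Scheme.ΓSpecIso (CommRingCat.of A)).inv a) :=
    (basicOpen_eq_of_affine (R := CommRingCat.of A) a).symm
  rw [h, Scheme.Hom.preimage_basicOpen]
  rfl

variable {r : ℕ} (f : Fin r → A) (hU : (U : Set ↥(Spec (CommRingCat.of A))) = (PrimeSpectrum.zeroLocus (Set.range f))ᶜ)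

include hU in
theorem prodF_le {p : ℕ} (J : Fin (p + 1) → Fin r) :
    bo (prodF f J) ≤ U := by
  intro t ht
  rw [← SetLike.mem_coe, hU]
  intro hz
  obtain ⟨b, hb⟩ : f (J 0) ∣ prodF f J := Finset.dvd_prod_of_mem _ (mem_img.2 ⟨0, rfl⟩)
  exact ht (hb ▸ t.asIdeal.mul_mem_right b (hz ⟨J 0, rfl⟩))

include hU in
theorem finite_projective [IsFinite q] [Etale q] [CompactSpace W] [QuasiSeparatedSpace W] (i : Fin r) :
    letI := scalAlg q
    Module.Finite (Localization (Submonoid.powers (f i))) (LocalizedModule (Submonoid.powers (f i)) Γ(W, ⊤)) ∧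
    Module.Projective (Localization (Submonoid.powers (f i))) (LocalizedModule (Submonoid.powers (f i)) Γ(W, ⊤)) := by
  letI := scalAlg q
  let J : Fin 1 → Fin r := fun _ => i
  have hJ : prodF f J = f i := by simp [prodF, img, J]
  let B : (Spec (CommRingCat.of A)).Opens := bo (f i)
  have hBU : B ≤ U := by have h := prodF_le f hU J; rw [hJ] at h; exact h
  have hD : D f W J = q ⁻¹ᵁ (U.ι ⁻¹ᵁ B) := by
    rw [D, hJ, preimage_basicOpen_eq]
    rfl
  have hB : IsAffineOpen B := isAffineOpen_bo _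
  let V : (U : Scheme.{u}).Opens := U.ι ⁻¹ᵁ B
  have hV : IsAffineOpen V := hB.preimage_of_isOpenImmersion U.ι (by rwa [Scheme.Opens.opensRange_ι])
  haveI : IsIso (U.ι.app B) := U.ι.isIso_app _ (by rwa [Scheme.Opens.opensRange_ι])
  let ψ₁ : Γ(Spec (CommRingCat.of A), B) ⟶ Γ(W, D f W J) := U.ι.app B ≫ q.appLE V (D f W J) hD.le
  have hfin : ψ₁.hom.Finite := by
    refine RingHom.Finite.comp ?_ (RingHom.Finite.of_surjective _ (ConcreteCategory.bijective_of_isIso (U.ι.app B)).2)
    rw [Scheme.Hom.appLE]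
    haveI : IsIso (W.presheaf.map (homOfLE hD.le).op) := by
      rw [show (homOfLE hD.le).op = eqToHom (congrArg op hD).symm from Subsingleton.elim _ _]
      infer_instance
    exact RingHom.Finite.comp
      (RingHom.Finite.of_surjective _ (ConcreteCategory.bijective_of_isIso (W.presheaf.map (homOfLE hD.le).op)).2)
      (q.finite_app V hV)
  have hets : (q.appLE V (D f W J) hD.le).hom.Etale :=
    HasRingHomProperty.appLE @Etale q ‹_› ⟨V, hV⟩ ⟨D f W J, hD ▸ hV.preimage q⟩ hD.le
  have het : ψ₁.hom.Etale :=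
    RingHom.Etale.stableUnderComposition _ _ (RingHom.Etale.of_bijective (ConcreteCategory.bijective_of_isIso (U.ι.app B))) hets
  let P := Submonoid.powers (f i)
  letI : Algebra A Γ(Spec (CommRingCat.of A), B) := StructureSheaf.openAlgebra A (op B)
  haveI : IsLocalization P Γ(Spec (CommRingCat.of A), B) := StructureSheaf.IsLocalization.to_basicOpen A (f i)
  let e : Localization P ≃ₐ[A] Γ(Spec (CommRingCat.of A), B) := IsLocalization.algEquiv P _ _
  let ψ : Localization P →+* Γ(W, D f W J) := ψ₁.hom.comp e.toRingEquiv.toRingHom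
  letI : Algebra (Localization P) Γ(W, D f W J) := ψ.toAlgebra
  haveI : IsScalarTower A (Localization P) Γ(W, D f W J) := IsScalarTower.of_algebraMap_eq fun a => by
    show _ = ψ₁.hom (e (algebraMap A (Localization P) a))
    rw [e.commutes]
    exact congrArg (fun k : CommRingCat.of A ⟶ Γ(W, D f W J) => k a)
      (appTop_map_eq U.ι q (Scheme.ΓSpecIso (CommRingCat.of A)).inv B (D f W J) hD.le)
  have hψfin : ψ.Finite := hfin.comp (RingHom.Finite.of_surjective _ e.surjective)
  have hψet : ψ.Etale := RingHom.Etale.stableUnderComposition _ _ (RingHom.Etale.of_bijective e.bijective) het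
  haveI : Module.Finite (Localization P) Γ(W, D f W J) := RingHom.finite_algebraMap.1 hψfin
  haveI : Algebra.Etale (Localization P) Γ(W, D f W J) := RingHom.etale_algebraMap.1 hψet
  haveI : Module.FinitePresentation (Localization P) Γ(W, D f W J) := .of_finite_of_finitePresentation _ _
  haveI : Module.Projective (Localization P) Γ(W, D f W J) := Module.Flat.projective_of_finitePresentation
  haveI : IsLocalizedModule P (toDL f W J) := by
    have h := isLocalizedModule_toDL f W J
    rwa [show S f J = P by rw [S, hJ]] at h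
  let ε := (IsLocalizedModule.iso P (toDL f W J)).extendScalarsOfIsLocalization P (Localization P)
  exact ⟨Module.Finite.equiv ε.symm, Module.Projective.of_equiv ε.symm⟩

include hU in
/-- **Restriction to the trace is bijective on clopen subsets.** -/
theorem clopenBij [IsLocalRing A] {x : A} (hx : x ∈ (Ideal.span (Set.range f)).radical)
    (h₁ : ∃ n, Kills f (x ^ n) 0 A) (h₂ : ∃ n, Kills f (x ^ n) 1 A) [HenselianRing A (Ideal.span {x})] :
    ClopenFFLib.ClopenBij (pullback.fst U.ι (Spec.map (CommRingCat.ofHom (Ideal.Quotient.mk (Ideal.span {x}))))) := by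
  intro Y C'
  let i₀ := pullback.fst U.ι (Spec.map (CommRingCat.ofHom (Ideal.Quotient.mk (Ideal.span {x}))))
  let W : Scheme.{u} := Y.left
  let q : W ⟶ (U : Scheme.{u}) := Y.hom
  haveI : IsFinite q := Y.prop.1
  haveI : Etale q := Y.prop.2
  haveI : CompactSpace (U : Scheme.{u}) := isCompact_iff_compactSpace.mp (NoetherianSpace.isCompact _)
  haveI : CompactSpace W := QuasiCompact.compactSpace_of_compactSpace q
  haveI : QuasiSeparatedSpace W := quasiSeparatedSpace_of_quasiSeparated (q ≫ U.ι)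
  letI := scalAlg q
  have hcov : ⨆ i, W.basicOpen (algebraMap A Γ(W, ⊤) (f i)) = ⊤ := by
    refine eq_top_iff.2 fun w _ => ?_
    have hw : (q ≫ U.ι) w ∉ PrimeSpectrum.zeroLocus (Set.range f) := by
      intro hz
      have h2 : (q ≫ U.ι) w ∈ (U : Set ↥(Spec (CommRingCat.of A))) := (q w).2
      rw [hU] at h2
      exact h2 hz
    obtain ⟨_, ⟨i, rfl⟩, hi⟩ := Set.not_subset.1 hw
    exact Opens.mem_iSup.2 ⟨i, (preimage_basicOpen_eq q (f i)).ge hi⟩
  have haff : ∀ (p : ℕ) (J : Fin (p + 1) → Fin r), IsAffineOpen (D f W J) := fun p J => by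
    rw [D, preimage_basicOpen_eq, Scheme.Hom.comp_preimage]
    refine IsAffineOpen.preimage ?_ q
    refine IsAffineOpen.preimage_of_isOpenImmersion ?_ U.ι ?_
    · exact isAffineOpen_bo _
    · rw [Scheme.Opens.opensRange_ι]
      exact prodF_le f hU J
  haveI : IsClosedImmersion (Spec.map (CommRingCat.ofHom (Ideal.Quotient.mk (Ideal.span {x})))) :=
    .spec_of_surjective _ Ideal.Quotient.mk_surjective
  haveI : IsClosedImmersion i₀ := MorphismProperty.pullback_fst _ _ ‹_›
  haveI : IsClosedImmersion (pullback.fst q i₀) := MorphismProperty.pullback_fst _ _ ‹_›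
  have hh : Topology.IsEmbedding (pullback.fst q i₀).base :=
    (pullback.fst q i₀).isClosedEmbedding.isEmbedding
  refine existsUnique_clopen (pullback.fst q i₀) f hcov haff (fun i => (finite_projective q f hU i).1)
    (fun i => (finite_projective q f hU i).2) hx h₁ h₂ hh (fun w => ?_) C'
  have hrange : ∀ t : PrimeSpectrum A,
      t ∈ Set.range (PrimeSpectrum.comap (Ideal.Quotient.mk (Ideal.span {x}))) ↔ x ∈ t.asIdeal := fun t => by
    rw [range_comap_of_surjective _ _ Ideal.Quotient.mk_surjective, Ideal.mk_ker, PrimeSpectrum.mem_zeroLocus,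
      SetLike.coe_subset_coe, Ideal.span_singleton_le_iff_mem]
  rw [preimage_basicOpen_eq, AlgebraicGeometry.Scheme.Pullback.range_fst, Set.mem_preimage,
    AlgebraicGeometry.Scheme.Pullback.range_fst, Set.mem_preimage]
  exact (hrange ((q ≫ U.ι) w)).trans ⟨fun h h' => h' h, fun h => not_not.1 h⟩

end PunctLefLib
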