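import Groth.Agent.PunctLefLib.IdemDesc
import Groth.Agent.PunctLefLib.Punctured
import Groth.Agent.ClopenFFLib.ConstCover
import Groth.Agent.H0Lib.Descent
import Groth.Agent.AlgSpLib.QAffDescent

/-!
# Full faithfulness descends from the completion
-/

set_option autoImplicit false
set_option linter.style.haveILetI false
universe u

open CategoryTheory CategoryTheory.Limits AlgebraicGeometry Opposite TopologicalSpace TensorProduct

noncomputable section

namespace PunctLefLib

open KoszLcLib KoszLib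

/-- A finite subalgebra inside which everything lies up to a power of one element. -/
theorem exists_finite_subalgebra {A B : Type u} [CommRing A] [CommRing B] [Algebra A B] (M : Submodule A B) (hM : M.FG)
    (g : A) (h : ∀ z : B, ∃ n : ℕ, g ^ n • z ∈ M) :
    ∃ S : Subalgebra A B, Module.Finite A S ∧ ∀ z : B, ∃ n : ℕ, g ^ n • z ∈ S := by
  classical
  obtain ⟨s, rfl⟩ := hM
  choose n hn using h
  let P : Finset B := (s ×ˢ s).image fun p => p.1 * p.2
  let N := P.sup n
  have hP : ∀ x ∈ s, ∀ y ∈ s, g ^ N • (x * y) ∈ Submodule.span A (s : Set B) := fun x hx y hy => by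
    have hle : n (x * y) ≤ N := Finset.le_sup (f := n) (Finset.mem_image.2 ⟨(x, y), Finset.mem_product.2 ⟨hx, hy⟩, rfl⟩)
    rw [show g ^ N = g ^ (N - n (x * y)) * g ^ n (x * y) by rw [← pow_add, Nat.sub_add_cancel hle], mul_smul]
    exact Submodule.smul_mem _ _ (hn _)
  let T : Submodule A B := Submodule.span A (insert (1 : B) ((fun x => g ^ N • x) '' (s : Set B)))
  have h1 : (1 : B) ∈ T := Submodule.subset_span (Set.mem_insert _ _)
  have hgT : ∀ z ∈ Submodule.span A (s : Set B), g ^ N • z ∈ T := fun z hz => by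
    refine Submodule.span_induction (p := fun z _ => g ^ N • z ∈ T) ?_ ?_ ?_ ?_ hz
    · exact fun x hx => Submodule.subset_span (Set.mem_insert_of_mem _ ⟨x, hx, rfl⟩)
    · rw [smul_zero]; exact T.zero_mem
    · intro x y _ _ hx hy; rw [smul_add]; exact T.add_mem hx hy
    · intro a x _ hx; rw [smul_comm]; exact T.smul_mem a hx
  have hmul : T * T ≤ T := by
    rw [Submodule.span_mul_span, Submodule.span_le]
    rintro _ ⟨a, ha, b, hb, rfl⟩
    show a * b ∈ T
    rcases ha with rfl | ⟨x, hx, rfl⟩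
    · rw [one_mul]; exact Submodule.subset_span hb
    · rcases hb with rfl | ⟨y, hy, rfl⟩
      · rw [mul_one]; exact Submodule.subset_span (Set.mem_insert_of_mem _ ⟨x, hx, rfl⟩)
      · show (g ^ N • x) * (g ^ N • y) ∈ T
        rw [smul_mul_smul_comm, mul_smul]
        exact hgT _ (hP x hx y hy)
  let S : Subalgebra A B := T.toSubalgebra h1 fun a b ha hb => hmul (Submodule.mul_mem_mul ha hb)
  refine ⟨S, Module.Finite.iff_fg.2 (show T.FG from Submodule.fg_span ((s.finite_toSet.image _).insert _)), fun z => ?_⟩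
  refine ⟨N + n z, ?_⟩
  rw [pow_add, mul_smul]
  exact hgT _ (hn z)

theorem exists_finite_subalgebra_pi {A B : Type u} [CommRing A] [CommRing B] [Algebra A B] {r : ℕ} (g : Fin r → A)
    (S : Fin r → Subalgebra A B) (hS : ∀ i, Module.Finite A (S i)) (h : ∀ i (z : B), ∃ n : ℕ, g i ^ n • z ∈ S i) :
    ∃ R₀ : Subalgebra A B, Module.Finite A R₀ ∧ ∀ i (z : B), ∃ n : ℕ, g i ^ n • z ∈ R₀ := by
  refine ⟨Finset.univ.sup S, ?_, fun i z => ?_⟩
  · refine Finset.sup_induction (p := fun R : Subalgebra A B => Module.Finite A R) ?_ ?_ fun i _ => hS i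
    · show Module.Finite A (Subalgebra.toSubmodule (⊥ : Subalgebra A B))
      rw [Module.Finite.iff_fg, Algebra.toSubmodule_bot, Submodule.one_eq_span]
      exact Submodule.fg_span_singleton _
    · intro R hR R' hR'
      exact Subalgebra.finite_sup R R'
  · obtain ⟨n, hn⟩ := h i z
    exact ⟨n, Finset.le_sup (f := S) (Finset.mem_univ i) hn⟩

theorem exists_pow_le {A : Type u} [CommRing A] [IsNoetherianRing A] {r : ℕ} (fs : Fin r → A) (I : Ideal A)
    (h : ∀ i, ∃ n : ℕ, fs i ^ n ∈ I) : ∃ k : ℕ, Ideal.span (Set.range fs) ^ k ≤ I :=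
  Ideal.exists_pow_le_of_le_radical_of_fg (Ideal.span_le.2 (Set.range_subset_iff.2 h)) (IsNoetherian.noetherian _)

theorem eq_toSpecΓ_comp {W : Scheme.{u}} {R : CommRingCat.{u}} (t : W ⟶ Spec R) :
    t = W.toSpecΓ ≫ Spec.map ((Scheme.ΓSpecIso R).inv ≫ t.appTop) := by
  rw [Spec.map_comp, ← Category.assoc, ← Scheme.toSpecΓ_naturality, Category.assoc,
    toSpecΓ_SpecMap_ΓSpecIso_inv, Category.comp_id]

theorem res_mem_span_of_appTop_eq_zero {A : Type u} [CommRing A] {U : (Spec (CommRingCat.of A)).Opens}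
    {W : Scheme.{u}} (q : W ⟶ (U : Scheme.{u})) (x : A) {D : W.Opens} (hD : IsAffineOpen D) (z : Γ(W, ⊤))
    (hz : (pullback.fst q (pullback.fst U.ι
      (Spec.map (CommRingCat.ofHom (Ideal.Quotient.mk (Ideal.span {x})))))).appTop z = 0) :
    letI := scalAlg q
    W.presheaf.map (homOfLE le_top).op z ∈
      Ideal.span {W.presheaf.map (homOfLE (le_top : D ≤ ⊤)).op (algebraMap A Γ(W, ⊤) x)} := by
  letI := scalAlg q
  let res : Γ(W, ⊤) →+* Γ(W, D) := (W.presheaf.map (homOfLE le_top).op).hom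
  let J : Ideal Γ(W, D) := Ideal.span {res (algebraMap A Γ(W, ⊤) x)}
  let mkD : Γ(W, D) ⟶ CommRingCat.of (Γ(W, D) ⧸ J) := CommRingCat.ofHom (Ideal.Quotient.mk J)
  let χ : (A ⧸ Ideal.span {x}) →+* (Γ(W, D) ⧸ J) :=
    Ideal.Quotient.lift _ (((Ideal.Quotient.mk J).comp res).comp (algebraMap A Γ(W, ⊤))) (by
      intro a ha
      obtain ⟨c, rfl⟩ := Ideal.mem_span_singleton'.1 ha
      rw [map_mul, show ((Ideal.Quotient.mk J).comp res).comp (algebraMap A Γ(W, ⊤)) x = 0 from
        Ideal.Quotient.eq_zero_iff_mem.2 (Ideal.mem_span_singleton_self _), mul_zero])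
  let t := Spec.map mkD ≫ hD.fromSpec
  have ht : (t ≫ q) ≫ U.ι = Spec.map (CommRingCat.ofHom χ) ≫
      Spec.map (CommRingCat.ofHom (Ideal.Quotient.mk (Ideal.span {x}))) := by
    rw [Category.assoc, eq_toSpecΓ_comp (q ≫ U.ι), Category.assoc, ← Category.assoc hD.fromSpec,
      IsAffineOpen.fromSpec_toSpecΓ, ← Spec.map_comp, ← Spec.map_comp, ← Spec.map_comp]
    rfl
  let t₀ := pullback.lift (t ≫ q) (Spec.map (CommRingCat.ofHom χ)) ht
  let l := pullback.lift (f := q) (g := pullback.fst U.ι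
      (Spec.map (CommRingCat.ofHom (Ideal.Quotient.mk (Ideal.span {x}))))) t t₀ (pullback.lift_fst _ _ _).symm
  have h1 : t.appTop z = 0 := by
    rw [show t = l ≫ pullback.fst _ _ from (pullback.lift_fst _ _ _).symm, Scheme.Hom.comp_appTop,
      CommRingCat.comp_apply, hz, map_zero]
  refine Ideal.Quotient.eq_zero_iff_mem.1 ?_
  have h2 : W.toSpecΓ.appTop ((Scheme.ΓSpecIso Γ(W, ⊤)).inv z) = z := by
    rw [Scheme.toSpecΓ_appTop, ← CommRingCat.comp_apply, Iso.inv_hom_id, CommRingCat.id_apply]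
  have h3 : t ≫ W.toSpecΓ = Spec.map (W.presheaf.map (homOfLE le_top).op ≫ mkD) := by
    rw [Category.assoc, IsAffineOpen.fromSpec_toSpecΓ, ← Spec.map_comp]
  rw [← h2, ← CommRingCat.comp_apply, ← Scheme.Hom.comp_appTop, h3, ← CommRingCat.comp_apply,
    ← Scheme.ΓSpecIso_inv_naturality, CommRingCat.comp_apply] at h1
  have h4 := congrArg (Scheme.ΓSpecIso (CommRingCat.of (Γ(W, D) ⧸ J))).hom h1
  rw [map_zero, ← CommRingCat.comp_apply, Iso.inv_hom_id] at h4
  exact h4

variable {A : Type u} [CommRing A] [IsNoetherianRing A] {Ah : Type u} [CommRing Ah] [Algebra A Ah]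
  [IsNoetherianRing Ah] [Module.FaithfullyFlat A Ah] {U : (Spec (CommRingCat.of A)).Opens} {r : ℕ} (fs : Fin r → A)

/-- **Bijectivity on clopen subsets descends from the completion along a Henselian pair.** -/
theorem clopenBij_of_completion
    (hU : (U : Set ↥(Spec (CommRingCat.of A))) = (PrimeSpectrum.zeroLocus (Set.range fs))ᶜ)
    (hdense : ∀ (k : ℕ) (c : Ah), ∃ a : A, c - algebraMap A Ah a ∈ (Ideal.span (Set.range fs) ^ k).map (algebraMap A Ah))
    (x : A) [HenselianRing A (Ideal.span {x})]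
    (h : (FEt.restrict (pullback.fst (pullback.fst U.ι (Spec.map (CommRingCat.ofHom (algebraMap A Ah))))
        (pullback.fst U.ι (Spec.map (CommRingCat.ofHom (Ideal.Quotient.mk (Ideal.span {x}))))))).Full ∧
      (FEt.restrict (pullback.fst (pullback.fst U.ι (Spec.map (CommRingCat.ofHom (algebraMap A Ah))))
        (pullback.fst U.ι (Spec.map (CommRingCat.ofHom (Ideal.Quotient.mk (Ideal.span {x}))))))).Faithful) :
    ClopenFFLib.ClopenBij (pullback.fst U.ι (Spec.map (CommRingCat.ofHom (Ideal.Quotient.mk (Ideal.span {x}))))) := by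
  classical
  intro Y C'
  let φ : CommRingCat.of A ⟶ CommRingCat.of Ah := CommRingCat.ofHom (algebraMap A Ah)
  let g := Spec.map φ
  let g₀ := Spec.map (CommRingCat.ofHom (Ideal.Quotient.mk (Ideal.span {x})))
  let i₀ := pullback.fst U.ι g₀
  let u₁ := pullback.fst U.ι g
  let i' := pullback.fst u₁ i₀
  let W : Scheme.{u} := Y.left
  let q : W ⟶ (U : Scheme.{u}) := Y.hom
  haveI : IsFinite q := Y.prop.1
  haveI : Etale q := Y.prop.2
  haveI : CompactSpace (U : Scheme.{u}) := isCompact_iff_compactSpace.mp (NoetherianSpace.isCompact _)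
  haveI : CompactSpace W := QuasiCompact.compactSpace_of_compactSpace q
  haveI : QuasiSeparatedSpace W := quasiSeparatedSpace_of_quasiSeparated (q ≫ U.ι)
  letI algW := scalAlg q
  haveI : IsClosedImmersion g₀ := .spec_of_surjective _ Ideal.Quotient.mk_surjective
  haveI : IsClosedImmersion i₀ := MorphismProperty.pullback_fst _ _ ‹_›
  let hP := pullback.fst q i₀
  haveI : IsClosedImmersion hP := MorphismProperty.pullback_fst _ _ ‹_›
  let B := Γ(W, ⊤)
  let G := Γ(pullback q i₀, ⊤)
  letI algG : Algebra A G := ((Scheme.ΓSpecIso (CommRingCat.of A)).inv ≫ (hP ≫ q ≫ U.ι).appTop).hom.toAlgebra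
  let ρ : B →ₐ[A] G :=
    { hP.appTop.hom with
      commutes' := fun a => by
        show hP.appTop (algebraMap A B a) = _
        rfl }
  -- the cover
  have hcov : ⨆ i, W.basicOpen (algebraMap A B (fs i)) = ⊤ := by
    refine eq_top_iff.2 fun w _ => ?_
    have hw : (q ≫ U.ι) w ∉ PrimeSpectrum.zeroLocus (Set.range fs) := by
      intro hz
      have h2 : (q ≫ U.ι) w ∈ (U : Set ↥(Spec (CommRingCat.of A))) := (q w).2
      rw [hU] at h2
      exact h2 hz
    obtain ⟨_, ⟨i, rfl⟩, hi⟩ := Set.not_subset.1 hw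
    exact Opens.mem_iSup.2 ⟨i, (preimage_basicOpen_eq q (fs i)).ge hi⟩
  have haff : ∀ J : Fin 1 → Fin r, IsAffineOpen (D fs W J) := fun J => by
    rw [D, preimage_basicOpen_eq, Scheme.Hom.comp_preimage]
    refine IsAffineOpen.preimage ?_ q
    refine IsAffineOpen.preimage_of_isOpenImmersion ?_ U.ι ?_
    · exact isAffineOpen_bo _
    · rw [Scheme.Opens.opensRange_ι]
      exact prodF_le fs hU J
  -- a finite subalgebra
  obtain ⟨M, hM, hgen⟩ := exists_finite_submodule fs W fun i => (finite_projective q fs hU i).1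
  choose S hS hSg using fun i => exists_finite_subalgebra M hM (fs i) (hgen i)
  obtain ⟨R₀, hR₀, hR₀g⟩ := exists_finite_subalgebra_pi fs S hS hSg
  haveI := hR₀
  have hR : ∀ z : B, ∃ k : ℕ, ∀ a ∈ Ideal.span (Set.range fs) ^ k, a • z ∈ R₀ := fun z => by
    obtain ⟨k, hk⟩ := exists_pow_le fs ((Subalgebra.toSubmodule R₀).comap (LinearMap.toSpanSingleton A B z))
      (fun i => hR₀g i z)
    exact ⟨k, fun a ha => hk ha⟩
  -- the kernel
  have hρx : ρ (algebraMap A B x) = 0 := by
    have hc : hP ≫ q ≫ U.ι = pullback.snd q i₀ ≫ pullback.snd U.ι g₀ ≫ g₀ := by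
      rw [← pullback.condition (f := U.ι) (g := g₀), ← Category.assoc, ← Category.assoc, pullback.condition]
    rw [ρ.commutes]
    show ((Scheme.ΓSpecIso (CommRingCat.of A)).inv ≫ (hP ≫ q ≫ U.ι).appTop) x = 0
    rw [hc, Scheme.Hom.comp_appTop, Scheme.Hom.comp_appTop, ← Category.assoc, ← Category.assoc,
      ← Scheme.ΓSpecIso_inv_naturality]
    refine (congrArg (fun t => (pullback.snd q i₀).appTop ((pullback.snd U.ι g₀).appTop
      ((Scheme.ΓSpecIso (CommRingCat.of (A ⧸ Ideal.span {x}))).inv t)))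
      (Ideal.Quotient.eq_zero_iff_mem.2 (Ideal.mem_span_singleton_self x))).trans ?_
    simp only [map_zero]
  have hK : ∀ z : B, ρ z = 0 → ∃ k : ℕ, ∀ a ∈ Ideal.span (Set.range fs) ^ k, ∃ b : B, a • z = x • b := fun z hz => by
    obtain ⟨k, hk⟩ := exists_pow_le fs ((LinearMap.range (LinearMap.lsmul A B x)).comap (LinearMap.toSpanSingleton A B z))
      (fun i => by
        let J : Fin 1 → Fin r := fun _ => i
        have hJ : prodF fs J = fs i := by simp [prodF, img, J]
        obtain ⟨c, hc⟩ := Ideal.mem_span_singleton'.1 (res_mem_span_of_appTop_eq_zero q x (haff J) z hz)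
        haveI := isLocalizedModule_toDL fs W J
        obtain ⟨⟨b, s⟩, hs⟩ := IsLocalizedModule.surj (KoszLcLib.S fs J) (toDL fs W J) c
        obtain ⟨n, hn⟩ := s.2
        have h1 : toDL fs W J ((s : A) • z) = toDL fs W J (x • b) := by
          rw [map_smul, map_smul, ← hs, smul_comm]
          refine congrArg ((s : A) • ·) ?_
          rw [Algebra.smul_def]
          exact hc.symm.trans (mul_comm _ _)
        obtain ⟨s', hs'⟩ := IsLocalizedModule.exists_of_eq (S := KoszLcLib.S fs J) h1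
        obtain ⟨n', hn'⟩ := s'.2
        refine ⟨n' + n, (s' : A) • b, ?_⟩
        show x • (s' : A) • b = fs i ^ (n' + n) • z
        rw [smul_comm, show fs i ^ (n' + n) = (s' : A) * (s : A) by rw [← hn, ← hn', hJ, pow_add], mul_smul]
        exact hs'.symm)
    exact ⟨k, fun a ha => (hk ha).imp fun b hb => hb.symm⟩
  -- base change to the completion
  let Y' : FEt.Cat (pullback U.ι g) := (FEt.restrict u₁).obj Y
  let w := pullback.fst q u₁
  let q' := pullback.snd q u₁
  let h' := pullback.fst q' i'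
  let p : pullback q' i' ⟶ pullback q i₀ := pullback.lift (h' ≫ w) (pullback.snd q' i' ≫ pullback.snd u₁ i₀) (by
    rw [Category.assoc, Category.assoc, pullback.condition, ← pullback.condition (f := u₁) (g := i₀),
      pullback.condition_assoc])
  have hp : h' ≫ w = p ≫ hP := (pullback.lift_fst _ _ _).symm
  have sqW : IsPullback w (q' ≫ pullback.snd U.ι g) (q ≫ U.ι) g :=
    (IsPullback.of_hasPullback q u₁).paste_vert (IsPullback.of_hasPullback U.ι g)
  have sqP₀ : IsPullback h' p w hP := by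
    refine IsPullback.of_bot ?_ hp (IsPullback.of_hasPullback q i₀)
    rw [pullback.lift_snd, pullback.condition (f := q) (g := u₁)]
    exact (IsPullback.of_hasPullback q' i').paste_vert (IsPullback.of_hasPullback u₁ i₀)
  have sqP : IsPullback p (h' ≫ q' ≫ pullback.snd U.ι g) (hP ≫ q ≫ U.ι) g := sqP₀.flip.paste_vert sqW
  have hφ : φ.hom.Flat := RingHom.flat_algebraMap_iff.2 inferInstance
  let dW : CommRingCat.of Ah ⟶ Γ(pullback q u₁, ⊤) :=
    (Scheme.ΓSpecIso (CommRingCat.of Ah)).inv ≫ (q' ≫ pullback.snd U.ι g).appTop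
  let dP : CommRingCat.of Ah ⟶ Γ(pullback q' i', ⊤) :=
    (Scheme.ΓSpecIso (CommRingCat.of Ah)).inv ≫ (h' ≫ q' ≫ pullback.snd U.ι g).appTop
  obtain ⟨EW, hEW⟩ := AlgSpLib.exists_tensor_equiv (R := A) (S := B) (R' := Ah) (c := w.appTop) (d := dW)
    (H0Lib.isPushout_ring sqW hφ) rfl rfl
  haveI : QuasiCompact (hP ≫ q ≫ U.ι) := inferInstance
  obtain ⟨EP, hEP⟩ := AlgSpLib.exists_tensor_equiv (R := A) (S := G) (R' := Ah) (c := p.appTop) (d := dP)
    (H0Lib.isPushout_ring sqP hφ) rfl rfl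
  let cB := Algebra.TensorProduct.comm A Ah B
  let cG := Algebra.TensorProduct.comm A Ah G
  have hnat : ∀ y : Ah ⊗[A] B, h'.appTop (EW (cB y)) = EP (cG (Algebra.TensorProduct.map (AlgHom.id Ah Ah) ρ y)) := fun y => by
    induction y using TensorProduct.induction_on with
    | zero => simp only [map_zero]
    | tmul c b =>
      show h'.appTop (EW (b ⊗ₜ c)) = EP (ρ b ⊗ₜ c)
      rw [hEW, hEP, map_mul]
      congr 1
      exact congr($(show w.appTop ≫ h'.appTop = hP.appTop ≫ p.appTop by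
        rw [← Scheme.Hom.comp_appTop, ← Scheme.Hom.comp_appTop, hp]) b)
    | add a b ha hb => simp only [map_add, ha, hb]
  -- existence
  obtain ⟨e₀, he₀, he₀C⟩ := ClopenFFLib.exists_idem C'.isClopen
  obtain ⟨⟨e', he', he'C⟩, huniq⟩ := ClopenFFLib.existsUnique_idem_of_full_faithful i' h Y' (he₀.map p.appTop.hom)
  have hy : Algebra.TensorProduct.map (AlgHom.id Ah Ah) ρ (cB.symm (EW.symm e')) = 1 ⊗ₜ e₀ := by
    refine cG.injective (EP.injective ?_)
    rw [← hnat, AlgEquiv.apply_symm_apply, RingEquiv.apply_symm_apply]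
    show h'.appTop e' = EP (e₀ ⊗ₜ 1)
    rw [hEP, map_one, mul_one]
    exact he'C
  obtain ⟨e, he, hee⟩ := exists_idempotent_descent (Ideal.span (Set.range fs)) hdense ρ hρx R₀ hR hK
    ((he'.map EW.symm).map cB.symm) he₀ hy
  refine ⟨⟨W.basicOpen e, isClopen_basicOpen_idem he⟩, ?_, fun C₂ hC₂ => ?_⟩
  · show hP.base ⁻¹' (W.basicOpen e : Set W) = _
    refine (congrArg SetLike.coe (Scheme.Hom.preimage_basicOpen hP e)).trans ?_
    rw [← he₀C]
    exact congrArg (fun a : G => (((pullback q i₀).basicOpen a : (pullback q i₀).Opens) : Set (pullback q i₀ : Scheme.{u}))) hee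
  · obtain ⟨e₂, he₂, he₂C⟩ := ClopenFFLib.exists_idem C₂.isClopen
    have h2 : ρ e₂ = ρ e := by
      rw [hee]
      refine ClopenFFLib.idem_eq_of_basicOpen_eq (he₂.map ρ) he₀ (SetLike.coe_injective ?_)
      rw [he₀C, ← hC₂, ← he₂C]
      exact (congrArg SetLike.coe (Scheme.Hom.preimage_basicOpen hP e₂)).symm
    have hW' : ∀ d : B, IsIdempotentElem d → IsIdempotentElem (EW (cB (1 ⊗ₜ d))) := fun d hd =>
      (hd.map (Algebra.TensorProduct.includeRight : B →ₐ[A] Ah ⊗[A] B) |>.map cB).map EW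
    have h3 := huniq _ _ (hW' e₂ he₂) (hW' e he) (by
      show h'.appTop _ = h'.appTop _
      rw [hnat, hnat, Algebra.TensorProduct.map_tmul, Algebra.TensorProduct.map_tmul, h2])
    have h4 : e₂ = e := Module.FaithfullyFlat.tensorProduct_mk_injective (B := Ah) B (cB.injective (EW.injective h3))
    exact SetLike.coe_injective (he₂C.symm.trans (by rw [h4]; rfl))

end PunctLefLib
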