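import Groth.Agent.PunctLefLib.PuncturedJ

/-!
# Finiteness of the global functions of a finite étale cover of a punctured spectrum
-/

set_option autoImplicit false
set_option linter.style.haveILetI false
universe u

open CategoryTheory CategoryTheory.Limits AlgebraicGeometry Opposite TopologicalSpace

noncomputable section

namespace PunctLefLib

open KoszLcLib KoszLib

variable {A : Type u} [CommRing A] [IsNoetherianRing A] {r : ℕ} (f : Fin r → A) (W : Scheme.{u})
  [Algebra A Γ(W, ⊤)] [CompactSpace W] [QuasiSeparatedSpace W]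
  (hcov : ⨆ i, W.basicOpen (algebraMap A Γ(W, ⊤) (f i)) = ⊤)
  (hfin : ∀ i, Module.Finite (Localization (Submonoid.powers (f i))) (LocalizedModule (Submonoid.powers (f i)) Γ(W, ⊤)))
  (hproj : ∀ i, Module.Projective (Localization (Submonoid.powers (f i)))
    (LocalizedModule (Submonoid.powers (f i)) Γ(W, ⊤)))

include hcov hfin hproj in
theorem finite_Γ_of_kills_one {x : A} (hx : x ∈ (Ideal.span (Set.range f)).radical) (hreg : IsSMulRegular A x)
    (h₁ : Kills f 1 0 A) : Module.Finite A Γ(W, ⊤) := by
  obtain ⟨M, hM, hgen⟩ := exists_finite_submodule f W hfin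
  haveI : Module.Finite A M := Module.Finite.iff_fg.2 hM
  have hprojM : ∀ i, Module.Projective (Localization (Submonoid.powers (f i)))
      (LocalizedModule (Submonoid.powers (f i)) M) := fun i => by
    let P := Submonoid.powers (f i)
    let g := IsLocalizedModule.map P (LocalizedModule.mkLinearMap P M) (LocalizedModule.mkLinearMap P Γ(W, ⊤)) M.subtype
    have hg : Function.Bijective g := by
      refine ⟨IsLocalizedModule.map_injective P _ _ _ M.injective_subtype, fun t => ?_⟩
      induction t using LocalizedModule.induction_on with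
      | h z s =>
        obtain ⟨n, hn⟩ := hgen i z
        refine ⟨LocalizedModule.mk ⟨_, hn⟩ (⟨f i ^ n, n, rfl⟩ * s), ?_⟩
        refine (IsLocalizedModule.map_LocalizedModules P M.subtype _ _).trans ?_
        rw [LocalizedModule.mk_eq]
        exact ⟨1, by simp [Submonoid.smul_def, smul_smul, mul_comm]⟩
    haveI := hproj i
    exact Module.Projective.of_equiv
      (((LinearEquiv.ofBijective g hg).symm).extendScalarsOfIsLocalization P (Localization P))
  have hregW : IsSMulRegular Γ(W, ⊤) x := (isSMulRegular_iff_right_eq_zero_of_smul).2 fun z hz =>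
    toD_jointly_injective f W hcov fun J => by
      obtain ⟨n, hn⟩ := hgen (J 0) z
      obtain ⟨e, t, μ, σ, hσ⟩ := exists_retract hprojM
        (Ideal.le_radical (Ideal.subset_span ⟨J 0, rfl⟩) : f (J 0) ∈ (Ideal.span (Set.range f)).radical)
      have h0 : f (J 0) ^ e • (⟨_, hn⟩ : M) = 0 := by
        rw [show f (J 0) ^ e • (⟨_, hn⟩ : M) = (∑ l, (σ l).comp (μ l)) ⟨_, hn⟩ by rw [hσ]; rfl, LinearMap.sum_apply]
        refine Finset.sum_eq_zero fun l _ => ?_
        rw [LinearMap.comp_apply, show μ l ⟨_, hn⟩ = 0 from hreg.right_eq_zero_of_smul (by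
          rw [← map_smul, show x • (⟨_, hn⟩ : M) = 0 from Subtype.ext (by
            rw [Submodule.coe_smul, smul_comm, hz, smul_zero]; rfl), map_zero]), map_zero]
      have h1 : f (J 0) ^ (e + n) • z = 0 := by
        rw [pow_add, mul_smul]; exact congrArg Subtype.val h0
      have hmem : prodF f J ^ (e + n) • z = 0 := by
        rw [show prodF f J = f (J 0) by simp [prodF, img]]
        exact h1
      have := IsLocalizedModule.map_units (toDL f W J) (el f (e + n) J)
      refine ((Module.End.isUnit_iff _).1 this).1 ?_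
      show prodF f J ^ (e + n) • toDL f W J z = prodF f J ^ (e + n) • toDL f W J 0
      rw [← map_smul, hmem, ← map_smul, smul_zero]
  obtain ⟨N, hN⟩ := exists_kills (n := 0) hprojM hx (by rwa [pow_zero])
  have hbij : ∀ (p : ℕ) (J : Fin (p + 1) → Fin r), Function.Bijective (qmap (f := f) M.subtype (p + 1) J) := fun p J => by
    refine ⟨IsLocalizedModule.map_injective (S f J) _ _ _ M.injective_subtype, fun t => ?_⟩
    induction t using LocalizedModule.induction_on with
    | h z s =>
      obtain ⟨n, hn⟩ := hgen (J 0) z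
      have hpn : prodF f J ^ n • z ∈ M := by
        have hdvd : f (J 0) ∣ prodF f J := Finset.dvd_prod_of_mem _ (mem_img.2 ⟨0, rfl⟩)
        obtain ⟨a, ha⟩ := hdvd
        rw [ha, mul_pow, mul_comm, mul_smul]
        exact M.smul_mem _ hn
      refine ⟨LocalizedModule.mk ⟨_, hpn⟩ (el f n J * s), ?_⟩
      refine (IsLocalizedModule.map_LocalizedModules (S f J) M.subtype _ _).trans ?_
      rw [LocalizedModule.mk_eq]
      exact ⟨1, by simp [Submonoid.smul_def, smul_smul, mul_comm]⟩
  have hcbij : ∀ p : ℕ, Function.Bijective (cmap (f := f) M.subtype (p + 1)) := fun p =>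
    ⟨fun a b h => funext fun J => (hbij p J).1 (congrFun h J),
      fun c => ⟨fun J => ((hbij p J).2 (c J)).choose, funext fun J => ((hbij p J).2 (c J)).choose_spec⟩⟩
  have hmem : ∀ z : Γ(W, ⊤), x ^ N • z ∈ M := fun z => by
    obtain ⟨cR, hcR⟩ := (Ψ f W 1).surjective (fun J => toD f W J z)
    obtain ⟨cM, rfl⟩ := (hcbij 0).2 cR
    have hd : (sys f M).dQ 1 cM = 0 := by
      refine (hcbij 1).1 ((Ψ f W 2).injective ?_)
      rw [map_zero, map_zero, ← LinearMap.comp_apply, ← cmap_d, LinearMap.comp_apply, Ψ_d, hcR, dS_toD]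
    obtain ⟨b, hb⟩ := hN cM hd
    obtain ⟨m, hm⟩ : ∃ m : M, ∀ J : Fin 0 → Fin r, b J = LocalizedModule.mk m 1 := by
      have J₀ : Fin 0 → Fin r := fun a => a.elim0
      obtain ⟨⟨m, s⟩, hms⟩ := IsLocalizedModule.surj (S f J₀) (LocalizedModule.mkLinearMap _ M) (b J₀)
      have hs : (s : A) = 1 := by
        obtain ⟨n, hn⟩ := s.2
        rw [← hn]
        simp [prodF, img]
      refine ⟨m, fun J => ?_⟩
      obtain rfl : J = J₀ := Subsingleton.elim _ _
      simpa [Submonoid.smul_def, hs] using hms
    have h : M.subtype m = x ^ N • z := toD_jointly_injective f W hcov fun J => by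
      have h1 := congrFun (congrArg (fun c => Ψ f W 1 (cmap M.subtype 1 c)) hb) J
      simp only [map_smul, hcR] at h1
      rw [← LinearMap.comp_apply, ← cmap_d, LinearMap.comp_apply] at h1
      rw [toD_smul]
      refine Eq.trans ?_ h1
      show _ = Φ f W J ((sys f _).dQ 0 (cmap M.subtype 0 b) J)
      rw [LimSys.dQ_apply, Fin.sum_univ_one, Fin.val_zero, pow_zero, one_smul]
      show _ = Φ f W J (rs f _ J 0 (qmap M.subtype 0 (J ∘ (0 : Fin 1).succAbove) (b (J ∘ (0 : Fin 1).succAbove))))
      rw [hm, qmap_mk_one, rs_mk_one, Φ_mk]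
    rw [← h]
    exact m.2
  let g : Γ(W, ⊤) →ₗ[A] M := LinearMap.codRestrict M (x ^ N • LinearMap.id) hmem
  exact Module.Finite.of_injective g fun a b hab =>
    (hregW.pow N) (show x ^ N • a = x ^ N • b from congrArg Subtype.val hab)

/-- The functions of a finite étale cover of an open complementary to a zero locus. -/
theorem finite_Γ_cover {U : (Spec (CommRingCat.of A)).Opens} {W : Scheme.{u}} (q : W ⟶ (U : Scheme.{u}))
    (hq : FEt.prop q) (hU : (U : Set ↥(Spec (CommRingCat.of A))) = (PrimeSpectrum.zeroLocus (Set.range f))ᶜ)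
    {x : A} (hx : x ∈ (Ideal.span (Set.range f)).radical) (hreg : IsSMulRegular A x) (h₁ : Kills f 1 0 A) :
    letI := scalAlg q
    Module.Finite A Γ(W, ⊤) := by
  haveI : IsFinite q := hq.1
  haveI : Etale q := hq.2
  haveI : CompactSpace (U : Scheme.{u}) := isCompact_iff_compactSpace.mp (NoetherianSpace.isCompact _)
  haveI : CompactSpace W := QuasiCompact.compactSpace_of_compactSpace q
  haveI : QuasiSeparatedSpace W := quasiSeparatedSpace_of_quasiSeparated (q ≫ U.ι)
  letI := scalAlg q
  have hcov : ⨆ i, W.basicOpen (algebraMap A Γ(W, ⊤) (f i)) = ⊤ := by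
    refine eq_top_iff.2 fun w _ => ?_
    have hw : (q ≫ U.ι) w ∉ PrimeSpectrum.zeroLocus (Set.range f) := by
      intro hz
      have h2 : (q ≫ U.ι) w ∈ (U : Set ↥(Spec (CommRingCat.of A))) := (q w).2
      rw [hU] at h2
      exact h2 hz
    obtain ⟨_, ⟨i, rfl⟩, hi⟩ := Set.not_subset.1 hw
    exact Opens.mem_iSup.2 ⟨i, (preimage_basicOpen_eq q (f i)).ge hi⟩
  exact finite_Γ_of_kills_one f W hcov (fun i => (finite_projective q f hU i).1)
    (fun i => (finite_projective q f hU i).2) hx hreg h₁

end PunctLefLib
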