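import Groth.Agent.PunctLefLib.Sheaf
import Groth.Agent.HenselLib.Perm

/-!
# Idempotents on a finite étale cover of a punctured spectrum and on the trace of a hypersurface
-/

set_option autoImplicit false
set_option linter.style.haveILetI false
universe u

open CategoryTheory AlgebraicGeometry Opposite TopologicalSpace

noncomputable section

namespace PunctLefLib

open KoszLcLib KoszLib

variable {A : Type u} [CommRing A]

section Newton

variable {B : Type u} [CommRing B] [Algebra A B] (x : A)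

theorem exists_idem_mod_pow {b : B} (hb : ∃ c, x • c = b * b - b) : ∀ L : ℕ,
    ∃ b' : B, (∃ c, x • c = b' - b) ∧ ∃ c, x ^ (L + 1) • c = b' * b' - b'
  | 0 => ⟨b, ⟨0, by simp⟩, by simpa using hb⟩
  | L + 1 => by
    obtain ⟨p, ⟨c, hc⟩, ⟨d, hd⟩⟩ := exists_idem_mod_pow hb L
    simp only [Algebra.smul_def, map_pow] at hc hd ⊢
    let X := algebraMap A B x
    refine ⟨3 * p ^ 2 - 2 * p ^ 3, ⟨c + (1 - 2 * p) * (X ^ L * d), ?_⟩,
      ⟨X ^ L * d ^ 2 * (4 * (p * p - p) - 3), ?_⟩⟩
    · linear_combination hc + (1 - 2 * p) * hd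
    · rw [← hd]
      linear_combination (algebraMap A B x ^ (L + 1) * d + p * p - p) * (4 * (p * p - p) - 3) * hd +
        (algebraMap A B x ^ (L + 1) * d) ^ 2 * 4 * hd

theorem exists_sub_eq_pow_smul {p q : B} {L : ℕ} (hp : ∃ c, x ^ L • c = p * p - p)
    (hq : ∃ c, x ^ L • c = q * q - q) (hpq : ∃ c, x • c = p - q) :
    ∀ l ≤ L, ∃ c, x ^ l • c = p - q := by
  obtain ⟨u, hu⟩ := hp
  obtain ⟨v, hv⟩ := hq
  obtain ⟨w, hw⟩ := hpq
  simp only [Algebra.smul_def, map_pow] at hu hv hw ⊢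
  intro l
  induction l with
  | zero => exact fun _ => ⟨p - q, by rw [pow_zero, one_mul]⟩
  | succ l ih =>
    intro hl
    obtain ⟨z, hz⟩ := ih (by omega)
    obtain ⟨e, rfl⟩ := Nat.exists_eq_add_of_le hl
    let X := algebraMap A B x
    refine ⟨z * w * (p - q) + X ^ e * ((v - u) * (1 - p - q) - 2 * (u + v) * (p - q)), ?_⟩
    show X ^ (l + 1) * _ = _
    have hX : X ^ (l + 1 + e) = X ^ (l + 1) * X ^ e := pow_add _ _ _
    linear_combination (v - u) * (1 - p - q) * hX.symm - 2 * (u + v) * (p - q) * hX.symm +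
      (X * w) * (p - q) * hz + (p - q) * (p - q) * hw + (1 - p - q) * (hv - hu) - 2 * (p - q) * (hu + hv)

end Newton

variable {r : ℕ} (f : Fin r → A) (W : Scheme.{u}) [Algebra A Γ(W, ⊤)]

theorem toD_smul {p : ℕ} (J : Fin p → Fin r) (a : A) (z : Γ(W, ⊤)) : toD f W J (a • z) = a • toD f W J z :=
  (toDL f W J).map_smul a z

theorem resF_mul {p : ℕ} (J : Fin (p + 1) → Fin r) (k : Fin (p + 1)) (y z : Γ(W, D f W (J ∘ k.succAbove))) :
    resF f W J k (y * z) = resF f W J k y * resF f W J k z := by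
  simp only [resF_apply, map_mul]

theorem dS_one (y : Sec f W 1) (J : Fin 2 → Fin r) :
    dS f W 1 y J = resF f W J 0 (y (J ∘ (0 : Fin 2).succAbove)) - resF f W J 1 (y (J ∘ (1 : Fin 2).succAbove)) := by
  rw [dS_apply, Fin.sum_univ_two]
  simp [sub_eq_add_neg]

theorem dS_toD (z : Γ(W, ⊤)) : dS f W 1 (fun J => toD f W J z) = 0 := funext fun J => by
  rw [dS_one, resF_toD, resF_toD, sub_self]
  rfl

variable [IsNoetherianRing A] [CompactSpace W] [QuasiSeparatedSpace W]

omit [IsNoetherianRing A] in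
theorem dS_dS (p : ℕ) (y : Sec f W p) : dS f W (p + 1) (dS f W p y) = 0 := by
  obtain ⟨c, rfl⟩ := (Ψ f W p).surjective y
  rw [← Ψ_d, ← Ψ_d, dQ_dQ, map_zero]

variable (hcov : ⨆ i, W.basicOpen (algebraMap A Γ(W, ⊤) (f i)) = ⊤)
  (hfin : ∀ i, Module.Finite (Localization (Submonoid.powers (f i))) (LocalizedModule (Submonoid.powers (f i)) Γ(W, ⊤)))
  (hproj : ∀ i, Module.Projective (Localization (Submonoid.powers (f i)))
    (LocalizedModule (Submonoid.powers (f i)) Γ(W, ⊤)))
  {x : A} (hx : x ∈ (Ideal.span (Set.range f)).radical)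
  (h₁ : ∃ n, Kills f (x ^ n) 0 A) (h₂ : ∃ n, Kills f (x ^ n) 1 A)

include hfin in
omit [CompactSpace W] [QuasiSeparatedSpace W] [IsNoetherianRing A] in
/-- A finite module with the same localisations. -/
theorem exists_finite_submodule :
    ∃ M : Submodule A Γ(W, ⊤), M.FG ∧ ∀ i (z : Γ(W, ⊤)), ∃ n : ℕ, f i ^ n • z ∈ M := by
  classical
  have hg : ∀ i, ∃ s : Finset Γ(W, ⊤), Submodule.span (Localization (Submonoid.powers (f i)))
      ((LocalizedModule.mkLinearMap (Submonoid.powers (f i)) Γ(W, ⊤)) '' (s : Set Γ(W, ⊤))) = ⊤ := by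
    intro i
    obtain ⟨T, hT⟩ := (hfin i).fg_top
    have hnum : ∀ t : LocalizedModule (Submonoid.powers (f i)) Γ(W, ⊤), ∃ z, ∃ a : Localization (Submonoid.powers (f i)),
        t = a • LocalizedModule.mkLinearMap (Submonoid.powers (f i)) Γ(W, ⊤) z := fun t => by
      induction t using LocalizedModule.induction_on with
      | h z s => exact ⟨z, Localization.mk 1 s, by
          rw [LocalizedModule.mkLinearMap_apply, LocalizedModule.mk_smul_mk, one_smul, mul_one]⟩
    choose num den hnd using hnum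
    refine ⟨T.image num, top_le_iff.1 (hT.ge.trans (Submodule.span_le.2 fun t ht => ?_))⟩
    rw [SetLike.mem_coe, hnd t]
    exact Submodule.smul_mem _ _ (Submodule.subset_span ⟨_, Finset.mem_image_of_mem num ht, rfl⟩)
  choose s hs using hg
  refine ⟨Submodule.span A (⋃ i, (s i : Set Γ(W, ⊤))), Submodule.fg_span (Set.finite_iUnion fun i => (s i).finite_toSet),
    fun i z => ?_⟩
  let M := Submodule.span A (⋃ i, (s i : Set Γ(W, ⊤)))
  let P := Submonoid.powers (f i)
  have key : ∀ t ∈ Submodule.span (Localization P) ((LocalizedModule.mkLinearMap P Γ(W, ⊤)) '' (s i : Set Γ(W, ⊤))),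
      ∃ (m : Γ(W, ⊤)) (d : P), m ∈ M ∧ (d : A) • t = LocalizedModule.mkLinearMap P _ m := by
    intro t ht
    induction ht using Submodule.span_induction with
    | mem t ht =>
      obtain ⟨z, hz, rfl⟩ := ht
      exact ⟨z, 1, Submodule.subset_span (Set.mem_iUnion.2 ⟨i, hz⟩), one_smul _ _⟩
    | zero => exact ⟨0, 1, M.zero_mem, by rw [smul_zero, map_zero]⟩
    | add t t' _ _ h h' =>
      obtain ⟨m, d, hm, hd⟩ := h
      obtain ⟨m', d', hm', hd'⟩ := h'
      refine ⟨(d' : A) • m + (d : A) • m', d * d', M.add_mem (M.smul_mem _ hm) (M.smul_mem _ hm'), ?_⟩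
      rw [map_add, map_smul, map_smul, ← hd, ← hd', Submonoid.coe_mul, smul_add, smul_smul, smul_smul,
        mul_comm (d' : A) (d : A)]
    | smul a t _ h =>
      obtain ⟨m, d, hm, hd⟩ := h
      obtain ⟨⟨b, e⟩, hbe⟩ := IsLocalization.surj P a
      refine ⟨b • m, e * d, M.smul_mem _ hm, ?_⟩
      have hea : (e : A) • a = algebraMap A (Localization P) b := by rw [Algebra.smul_def, mul_comm]; exact hbe
      rw [map_smul, ← hd, Submonoid.coe_mul, mul_comm, mul_smul, ← smul_assoc (e : A) a t, hea, algebraMap_smul,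
        smul_comm]
  obtain ⟨m, d, hm, hd⟩ := key (LocalizedModule.mkLinearMap P _ z) (by rw [hs]; trivial)
  rw [← map_smul] at hd
  obtain ⟨e, he⟩ := IsLocalizedModule.exists_of_eq (S := P) hd
  obtain ⟨n, hn⟩ := d.2
  obtain ⟨n', hn'⟩ := e.2
  refine ⟨n' + n, ?_⟩
  rw [pow_add, mul_smul, show f i ^ n = (d : A) from hn, show f i ^ n' = (e : A) from hn']
  have : (e : A) • (d : A) • z = (e : A) • m := he
  rw [this]
  exact M.smul_mem _ hm

include hcov hfin hproj hx h₁ h₂ in
/-- The bounds on the functions of the cover. -/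
theorem exists_bounds : ∃ (M : Submodule A Γ(W, ⊤)) (N k c₀ : ℕ), M.FG ∧
    (∀ z, x ^ N • z ∈ M) ∧
    (∀ c : Sec f W 2, dS f W 2 c = 0 → ∃ b, dS f W 1 b = x ^ k • c) ∧
    (∀ (p : ℕ) (J : Fin (p + 1) → Fin r) (z : Γ(W, D f W J)) (m : ℕ), x ^ m • z = 0 → x ^ c₀ • z = 0) := by
  obtain ⟨M, hM, hMgen⟩ := exists_finite_submodule f W hfin
  haveI : Module.Finite A M := Module.Finite.iff_fg.2 hM
  let ι := M.subtype
  have hprojM : ∀ i, Module.Projective (Localization (Submonoid.powers (f i)))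
      (LocalizedModule (Submonoid.powers (f i)) M) := fun i => by
    let P := Submonoid.powers (f i)
    let g := IsLocalizedModule.map P (LocalizedModule.mkLinearMap P M) (LocalizedModule.mkLinearMap P Γ(W, ⊤)) ι
    have hg : Function.Bijective g := by
      refine ⟨IsLocalizedModule.map_injective P _ _ _ M.injective_subtype, fun t => ?_⟩
      induction t using LocalizedModule.induction_on with
      | h z s =>
        obtain ⟨n, hn⟩ := hMgen i z
        refine ⟨LocalizedModule.mk ⟨_, hn⟩ (⟨f i ^ n, n, rfl⟩ * s), ?_⟩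
        refine (IsLocalizedModule.map_LocalizedModules P ι _ _).trans ?_
        rw [LocalizedModule.mk_eq]
        exact ⟨1, by simp [Submonoid.smul_def, smul_smul, mul_comm, ι]⟩
    haveI := hproj i
    exact Module.Projective.of_equiv
      (((LinearEquiv.ofBijective g hg).symm).extendScalarsOfIsLocalization P (Localization P))
  have hbij : ∀ (p : ℕ) (J : Fin (p + 1) → Fin r), Function.Bijective (qmap (f := f) ι (p + 1) J) := fun p J => by
    refine ⟨IsLocalizedModule.map_injective (S f J) _ _ _ M.injective_subtype, fun t => ?_⟩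
    induction t using LocalizedModule.induction_on with
    | h z s =>
      obtain ⟨n, hn⟩ := hMgen (J 0) z
      have hpn : prodF f J ^ n • z ∈ M := by
        have hdvd : f (J 0) ∣ prodF f J := Finset.dvd_prod_of_mem _ (mem_img.2 ⟨0, rfl⟩)
        obtain ⟨a, ha⟩ := hdvd
        rw [ha, mul_pow, mul_comm, mul_smul]
        exact M.smul_mem _ hn
      refine ⟨LocalizedModule.mk ⟨_, hpn⟩ (el f n J * s), ?_⟩
      refine (IsLocalizedModule.map_LocalizedModules (S f J) ι _ _).trans ?_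
      rw [LocalizedModule.mk_eq]
      exact ⟨1, by simp [Submonoid.smul_def, smul_smul, mul_comm, ι]⟩
  have hcbij : ∀ p : ℕ, Function.Bijective (cmap (f := f) ι (p + 1)) := fun p =>
    ⟨fun a b h => funext fun J => (hbij p J).1 (congrFun h J),
      fun c => ⟨fun J => ((hbij p J).2 (c J)).choose, funext fun J => ((hbij p J).2 (c J)).choose_spec⟩⟩
  obtain ⟨n₁, hn₁⟩ := h₁
  obtain ⟨n₂, hn₂⟩ := h₂
  obtain ⟨N, hN⟩ := exists_kills hprojM hx hn₁
  obtain ⟨k, hk⟩ := exists_kills hprojM hx hn₂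
  obtain ⟨c₀, hc₀⟩ := exists_torsion_bound (f := f) (M := M) x
  refine ⟨M, N, k, c₀, hM, fun z => ?_, fun c hc => ?_, fun p J z m hz => ?_⟩
  · obtain ⟨cR, hcR⟩ := (Ψ f W 1).surjective (fun J => toD f W J z)
    obtain ⟨cM, rfl⟩ := (hcbij 0).2 cR
    have hd : (sys f M).dQ 1 cM = 0 := by
      refine (hcbij 1).1 ((Ψ f W 2).injective ?_)
      rw [map_zero, map_zero, ← LinearMap.comp_apply, ← cmap_d, LinearMap.comp_apply, Ψ_d, hcR, dS_toD]
    obtain ⟨b, hb⟩ := hN cM hd
    obtain ⟨m, hm⟩ : ∃ m : M, ∀ J : Fin 0 → Fin r, b J = LocalizedModule.mk m 1 := by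
      have J₀ : Fin 0 → Fin r := fun a => a.elim0
      obtain ⟨⟨m, s⟩, hms⟩ := IsLocalizedModule.surj (S f J₀) (LocalizedModule.mkLinearMap _ M) (b J₀)
      have hs : (s : A) = 1 := by
        obtain ⟨n, hn⟩ := s.2
        rw [← hn]
        simp [prodF, img]
      refine ⟨m, fun J => ?_⟩
      obtain rfl : J = J₀ := Subsingleton.elim _ _
      simpa [Submonoid.smul_def, hs] using hms
    have h : ι m = x ^ N • z := toD_jointly_injective f W hcov fun J => by
      have h1 := congrFun (congrArg (fun c => Ψ f W 1 (cmap ι 1 c)) hb) J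
      simp only [map_smul, hcR] at h1
      rw [← LinearMap.comp_apply, ← cmap_d, LinearMap.comp_apply] at h1
      rw [toD_smul]
      refine Eq.trans ?_ h1
      show _ = Φ f W J ((sys f _).dQ 0 (cmap ι 0 b) J)
      rw [LimSys.dQ_apply, Fin.sum_univ_one, Fin.val_zero, pow_zero, one_smul]
      show _ = Φ f W J (rs f _ J 0 (qmap ι 0 (J ∘ (0 : Fin 1).succAbove) (b (J ∘ (0 : Fin 1).succAbove))))
      rw [hm, qmap_mk_one, rs_mk_one, Φ_mk]
    rw [← h]
    exact m.2
  · obtain ⟨cR, rfl⟩ := (Ψ f W 2).surjective c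
    obtain ⟨cM, rfl⟩ := (hcbij 1).2 cR
    have hd : (sys f M).dQ 2 cM = 0 := by
      refine (hcbij 2).1 ((Ψ f W 3).injective ?_)
      rw [map_zero, map_zero, ← LinearMap.comp_apply, ← cmap_d, LinearMap.comp_apply, Ψ_d, hc]
    obtain ⟨b, hb⟩ := hk cM hd
    exact ⟨Ψ f W 1 (cmap ι 1 b), by
      rw [← Ψ_d, ← LinearMap.comp_apply ((sys f _).dQ 1), cmap_d, LinearMap.comp_apply, hb, map_smul, map_smul]⟩
  · obtain ⟨t, rfl⟩ := (Φ f W J).surjective z
    obtain ⟨t', rfl⟩ := (hbij p J).2 t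
    have h' : x ^ m • t' = 0 := (hbij p J).1 ((Φ f W J).injective (by rw [map_smul, map_smul, hz, map_zero, map_zero]))
    rw [← map_smul, ← map_smul, hc₀ _ J t' m h', map_zero, map_zero]

variable [HenselianRing A (Ideal.span {x})]

include hcov hfin hproj hx h₁ h₂ in
/-- **Idempotents of the trace lift.** -/
theorem exists_idempotent (y : Sec f W 1) (hy : ∀ J, ∃ c, x • c = y J * y J - y J)
    (hd : ∀ J, ∃ c, x • c = dS f W 1 y J) :
    ∃ e : Γ(W, ⊤), IsIdempotentElem e ∧ ∀ J, ∃ c, x • c = toD f W J e - y J := by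
  obtain ⟨M, N, k, c₀, hM, hN, hk, htor⟩ := exists_bounds f W hcov hfin hproj hx h₁ h₂
  -- the level
  let L := N + (c₀ + (k + c₀))
  choose y' hy' hy'L using fun J => exists_idem_mod_pow x (hy J) L
  have hdy : ∀ J, ∃ c, x ^ (L + 1) • c = dS f W 1 y' J := fun J => by
    rw [dS_one]
    refine exists_sub_eq_pow_smul x ?_ ?_ ?_ _ le_rfl
    · obtain ⟨c, hc⟩ := hy'L (J ∘ (0 : Fin 2).succAbove)
      exact ⟨resF f W J 0 c, by rw [← map_smul, hc, map_sub, resF_mul]⟩
    · obtain ⟨c, hc⟩ := hy'L (J ∘ (1 : Fin 2).succAbove)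
      exact ⟨resF f W J 1 c, by rw [← map_smul, hc, map_sub, resF_mul]⟩
    · obtain ⟨c, hc⟩ := hd J
      obtain ⟨c₁, hc₁⟩ := hy' (J ∘ (0 : Fin 2).succAbove)
      obtain ⟨c₂, hc₂⟩ := hy' (J ∘ (1 : Fin 2).succAbove)
      refine ⟨c + resF f W J 0 c₁ - resF f W J 1 c₂, ?_⟩
      rw [smul_sub, smul_add, hc, ← map_smul, hc₁, ← map_smul, hc₂, map_sub, map_sub, dS_one]
      abel
  choose c hc using hdy
  -- a cocycle
  have hc2 : x ^ c₀ • dS f W 2 c = 0 := funext fun J => htor 2 J _ (L + 1) (by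
    have : x ^ (L + 1) • c = dS f W 1 y' := funext hc
    rw [← Pi.smul_apply, ← map_smul, this, dS_dS]
    rfl)
  obtain ⟨b, hb⟩ := hk (x ^ c₀ • c) (by rw [map_smul, hc2])
  obtain ⟨z, hz⟩ := exists_of_dS_eq_zero f W hcov (y := y' - x ^ (N + c₀ + 1) • b) (by
    rw [map_sub, map_smul, hb, ← (funext hc : x ^ (L + 1) • c = dS f W 1 y'), smul_smul, smul_smul, ← pow_add, ← pow_add,
      show N + c₀ + 1 + k + c₀ = L + 1 from by omega, sub_self])
  -- the defect
  let n := N + c₀ + 1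
  have hu : ∀ J, ∃ w, x ^ n • w = toD f W J (z * z - z) := fun J => by
    obtain ⟨d, hd⟩ := hy'L J
    refine ⟨x ^ (k + c₀) • d + b J + x ^ n • (b J * b J) - 2 * (y' J * b J), ?_⟩
    rw [map_sub, map_mul, hz J]
    rw [Pi.sub_apply, Pi.smul_apply]
    simp only [Algebra.smul_def, map_pow] at hd ⊢
    rw [show L + 1 = n + (k + c₀) from by omega, pow_add] at hd
    simp only [n] at hd ⊢
    linear_combination hd
  choose w hw using hu
  obtain ⟨v, hv⟩ := exists_of_dS_eq_zero f W hcov (y := x ^ c₀ • w) (by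
    rw [map_smul]
    refine funext fun J => htor 1 J _ n ?_
    rw [← Pi.smul_apply, ← map_smul, show x ^ n • w = fun J => toD f W J (z * z - z) from funext hw, dS_toD]
    rfl)
  have huv : z * z - z = x ^ (N + 1) • v := toD_jointly_injective f W hcov fun J => by
    rw [toD_smul, hv J, Pi.smul_apply, smul_smul, ← pow_add, show N + 1 + c₀ = n from by omega, hw J]
  -- the finite subalgebra
  let R₁ : Subalgebra A Γ(W, ⊤) :=
    { carrier := {t | ∃ a z, t = algebraMap A _ a + x ^ N • z}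
      mul_mem' := by
        rintro _ _ ⟨a, z, rfl⟩ ⟨a', z', rfl⟩
        exact ⟨a * a', a • z' + a' • z + x ^ N • (z * z'), by simp only [Algebra.smul_def, map_pow, map_mul]; ring⟩
      add_mem' := by
        rintro _ _ ⟨a, z, rfl⟩ ⟨a', z', rfl⟩
        exact ⟨a + a', z + z', by rw [map_add, smul_add]; abel⟩
      algebraMap_mem' := fun a => ⟨a, 0, by rw [smul_zero, add_zero]⟩ }
  haveI : Module.Finite A R₁ := by
    have hS : (Submodule.span A {(1 : Γ(W, ⊤))} ⊔ M).FG := (Submodule.fg_span_singleton 1).sup hM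
    haveI := isNoetherian_of_fg_of_noetherian _ hS
    refine Module.Finite.iff_fg.2 (?_ : R₁.toSubmodule.FG)
    refine Submodule.FG.of_le hS ?_
    rintro _ ⟨a, z, rfl⟩
    exact Submodule.add_mem _ (Submodule.mem_sup_left (Submodule.mem_span_singleton.2
      ⟨a, (Algebra.algebraMap_eq_smul_one a).symm⟩)) (Submodule.mem_sup_right (hN z))
  haveI : HenselianRing R₁ ((Ideal.span {x}).map (algebraMap A R₁)) := HenselLib.henselianRing_map_of_isIntegral
  let v₁ : R₁ := ⟨x ^ N • v, 0, v, by rw [map_zero, zero_add]⟩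
  let X₁ := algebraMap A R₁ x
  have hX₁ : X₁ ∈ (Ideal.span {x}).map (algebraMap A R₁) :=
    Ideal.mem_map_of_mem _ (Ideal.mem_span_singleton_self x)
  let u₁ : R₁ := X₁ * v₁
  have hu₁ : (u₁ : Γ(W, ⊤)) = z * z - z := by
    rw [huv, pow_succ', mul_smul, Algebra.smul_def x]
    rfl
  have hunit : IsUnit (1 + 4 * u₁) := by
    have h4 : 4 * u₁ ∈ Ideal.jacobson (⊥ : Ideal R₁) :=
      HenselianRing.jac (I := (Ideal.span {x}).map (algebraMap A R₁))
        (Ideal.mul_mem_left _ _ (Ideal.mul_mem_right _ _ hX₁))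
    have h5 := Ideal.mem_jacobson_bot.1 h4 1
    rwa [mul_one, add_comm] at h5
  obtain ⟨i₁, hi₁⟩ := hunit.exists_right_inv
  let w₁ : R₁ := - u₁ * i₁
  obtain ⟨γ, hγ, hγ0⟩ := HenselianRing.is_henselian (I := (Ideal.span {x}).map (algebraMap A R₁))
    (Polynomial.X ^ 2 - Polynomial.X - Polynomial.C w₁) (by
      rw [sub_sub]
      exact Polynomial.monic_X_pow_sub (lt_of_le_of_lt ((Polynomial.degree_add_le _ _).trans
        (max_le Polynomial.degree_X_le (Polynomial.degree_C_le.trans zero_le_one))) (by norm_cast))) 0 (by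
      simp only [Polynomial.eval_sub, Polynomial.eval_pow, Polynomial.eval_X, Polynomial.eval_C]
      simp only [ne_eq, OfNat.ofNat_ne_zero, not_false_eq_true, zero_pow, sub_self, zero_sub, neg_mem_iff]
      exact Ideal.mul_mem_right _ _ (neg_mem (Ideal.mul_mem_right _ _ hX₁))) (by
      simp [Polynomial.derivative_X_pow])
  rw [sub_zero] at hγ0
  have hγ' : γ ^ 2 - γ - w₁ = 0 := by simpa using hγ
  let e : Γ(W, ⊤) := z + (1 - 2 * z) * γ
  refine ⟨e, ?_, fun J => ?_⟩
  · have h6 : (γ : Γ(W, ⊤)) ^ 2 - γ + (z * z - z) * (i₁ : Γ(W, ⊤)) = 0 := by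
      have := congrArg (Subtype.val) hγ'
      simpa [w₁, hu₁, sub_eq_add_neg] using this
    have h7 : (1 + 4 * (z * z - z)) * (i₁ : Γ(W, ⊤)) = 1 := by
      have := congrArg R₁.val hi₁
      rw [map_mul, map_add, map_mul, map_one, map_ofNat, show R₁.val u₁ = _ from hu₁] at this
      exact this
    show e * e = e
    linear_combination (1 + 4 * (z * z - z)) * h6 - (z * z - z) * h7
  · obtain ⟨g, hg⟩ : ∃ g : Γ(W, ⊤), (γ : Γ(W, ⊤)) = x • g := by
      rw [Ideal.map_span, Set.image_singleton] at hγ0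
      obtain ⟨g, hg⟩ := Ideal.mem_span_singleton'.1 hγ0
      exact ⟨g, by rw [← hg, Algebra.smul_def, Subalgebra.coe_mul, mul_comm]; rfl⟩
    obtain ⟨c₁, hc₁⟩ := hy' J
    refine ⟨c₁ - x ^ (N + c₀) • b J + toD f W J ((1 - 2 * z) * g), ?_⟩
    rw [show e = z + x • ((1 - 2 * z) * g) from by rw [← mul_smul_comm, ← hg], map_add, toD_smul, hz J, smul_add,
      smul_sub, hc₁, smul_smul, ← pow_succ', Pi.sub_apply, Pi.smul_apply]
    abel

include hcov hfin hproj hx h₁ h₂ in
/-- **Idempotents vanishing on the trace vanish.** -/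
theorem idempotent_eq_zero {d : Γ(W, ⊤)} (hd : IsIdempotentElem d) (h : ∀ J, ∃ c, x • c = toD f W (p := 1) J d) :
    d = 0 := by
  obtain ⟨M, N, k, c₀, hM, hN, -, htor⟩ := exists_bounds f W hcov hfin hproj hx h₁ h₂
  haveI : Module.Finite A M := Module.Finite.iff_fg.2 hM
  have hpow : ∀ (n : ℕ) J, ∃ c, x ^ n • c = toD f W (p := 1) J d := fun n J => by
    obtain ⟨c, hc⟩ := h J
    cases n with
    | zero => exact ⟨toD f W J d, by rw [pow_zero, one_smul]⟩
    | succ n =>
      refine ⟨c ^ (n + 1), ?_⟩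
      rw [← smul_pow, hc, ← map_pow, hd.pow_succ_eq]
  have hlift : ∀ n, c₀ ≤ n → ∃ v, x ^ (n - c₀) • v = d := fun n hn => by
    choose w hw using hpow n
    obtain ⟨v, hv⟩ := exists_of_dS_eq_zero f W hcov (y := x ^ c₀ • w) (by
      rw [map_smul]
      refine funext fun J => htor 1 J _ n ?_
      rw [← Pi.smul_apply, ← map_smul, show x ^ n • w = fun J => toD f W J d from funext hw, dS_toD]
      rfl)
    refine ⟨v, toD_jointly_injective f W hcov fun J => ?_⟩
    rw [toD_smul, hv J, Pi.smul_apply, smul_smul, ← pow_add, Nat.sub_add_cancel hn, hw J]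
  have hzero : (⟨x ^ N • d, hN d⟩ : M) = 0 := by
    rw [← Submodule.mem_bot (R := A), ← Ideal.iInf_pow_smul_eq_bot_of_le_jacobson (M := M)
      (Ideal.span {x}) HenselianRing.jac, Submodule.mem_iInf]
    intro i
    obtain ⟨v, hv⟩ := hlift (i + c₀) (Nat.le_add_left _ _)
    rw [Nat.add_sub_cancel] at hv
    rw [show (⟨x ^ N • d, hN d⟩ : M) = x ^ i • ⟨x ^ N • v, hN v⟩ from Subtype.ext (by
      rw [Submodule.coe_smul]
      show x ^ N • d = x ^ i • x ^ N • v
      rw [smul_comm, hv])]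
    exact Submodule.smul_mem_smul (Ideal.pow_mem_pow (Ideal.mem_span_singleton_self x) i) trivial
  have hzero' : x ^ N • d = 0 := congrArg Subtype.val hzero
  refine toD_jointly_injective f W hcov fun J => ?_
  obtain ⟨c, hc⟩ := hpow N J
  calc toD f W J d = toD f W J d * toD f W J d := by rw [← map_mul, hd.eq]
    _ = c * toD f W J (x ^ N • d) := by
      rw [toD_smul]
      conv_lhs => arg 1; rw [← hc]
      rw [smul_mul_assoc, mul_smul_comm]
    _ = toD f W J 0 := by rw [hzero', map_zero, mul_zero]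

end PunctLefLib
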