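import Groth.Agent.HenselLib.Criteria
import Mathlib

/-!
# Idempotents descend from the completion along a Henselian pair
-/

set_option autoImplicit false
set_option linter.style.haveILetI false
universe u

open TensorProduct

noncomputable section

namespace PunctLefLib

variable {A Ah : Type u} [CommRing A] [CommRing Ah] [Algebra A Ah] (m : Ideal A)

theorem exists_eq_one_tmul_of_torsion
    (hdense : ∀ (k : ℕ) (c : Ah), ∃ a : A, c - algebraMap A Ah a ∈ (m ^ k).map (algebraMap A Ah))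
    {T : Type u} [AddCommGroup T] [Module A T] (htor : ∀ t : T, ∃ k : ℕ, ∀ a ∈ m ^ k, a • t = 0) (x : Ah ⊗[A] T) :
    ∃ t : T, x = 1 ⊗ₜ t := by
  induction x using TensorProduct.induction_on with
  | zero => exact ⟨0, (TensorProduct.tmul_zero _ _).symm⟩
  | tmul c t =>
    obtain ⟨k, hk⟩ := htor t
    obtain ⟨a, ha⟩ := hdense k c
    refine ⟨a • t, ?_⟩
    have hkill : ∀ c : Ah, c ∈ (m ^ k).map (algebraMap A Ah) → c ⊗ₜ[A] t = 0 := by
      suffices h : ∀ c : Ah, c ∈ (m ^ k).map (algebraMap A Ah) → ∀ b : Ah, (b * c) ⊗ₜ[A] t = 0 by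
        exact fun c hc => by simpa using h c hc 1
      intro c hc
      refine Submodule.span_induction (p := fun c _ => ∀ b : Ah, (b * c) ⊗ₜ[A] t = (0 : Ah ⊗[A] T)) ?_ ?_ ?_ ?_ hc
      · rintro _ ⟨y, hy, rfl⟩ b
        rw [mul_comm, ← Algebra.smul_def, TensorProduct.smul_tmul, hk y hy, TensorProduct.tmul_zero]
      · intro b; rw [mul_zero, TensorProduct.zero_tmul]
      · intro y z _ _ hy hz b; rw [mul_add, TensorProduct.add_tmul, hy, hz, add_zero]
      · intro z y _ hy b; rw [smul_eq_mul, ← mul_assoc]; exact hy _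
    have h1 := hkill _ ha
    rw [TensorProduct.sub_tmul, sub_eq_zero] at h1
    rw [h1, Algebra.algebraMap_eq_smul_one, TensorProduct.smul_tmul]
  | add x y hx hy =>
    obtain ⟨s, rfl⟩ := hx
    obtain ⟨t, rfl⟩ := hy
    exact ⟨s + t, (TensorProduct.tmul_add _ _ _).symm⟩

variable [IsNoetherianRing A] [IsNoetherianRing Ah] [Module.FaithfullyFlat A Ah]
  {B : Type u} [CommRing B] [Algebra A B] {G : Type u} [CommRing G] [Algebra A G]

theorem isIntegral_of_isIntegral_one_tmul (b : B) (hb : IsIntegral Ah ((1 : Ah) ⊗ₜ[A] b)) : IsIntegral A b := by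
  let S := Algebra.adjoin A {b}
  let ι : Ah ⊗[A] S →ₐ[Ah] Ah ⊗[A] B := Algebra.TensorProduct.map (AlgHom.id Ah Ah) S.val
  have hι : Function.Injective ι :=
    Module.Flat.lTensor_preserves_injective_linearMap (M := Ah) S.val.toLinearMap Subtype.val_injective
  have hle : ι.range ≤ Algebra.adjoin Ah {(1 : Ah) ⊗ₜ[A] b} := by
    rintro _ ⟨t, rfl⟩
    induction t using TensorProduct.induction_on with
    | zero => rw [map_zero]; exact Subalgebra.zero_mem _
    | tmul c s =>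
      obtain ⟨s, hs⟩ := s
      show c ⊗ₜ[A] s ∈ Algebra.adjoin Ah {(1 : Ah) ⊗ₜ[A] b}
      rw [show c ⊗ₜ[A] s = c • ((1 : Ah) ⊗ₜ[A] s) by rw [TensorProduct.smul_tmul', smul_eq_mul, mul_one]]
      refine Subalgebra.smul_mem _ ?_ c
      have : Algebra.adjoin A {b} ≤ ((Algebra.adjoin Ah {(1 : Ah) ⊗ₜ[A] b}).restrictScalars A).comap
          Algebra.TensorProduct.includeRight :=
        Algebra.adjoin_le (Set.singleton_subset_iff.2 (Algebra.subset_adjoin rfl))
      exact this hs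
    | add x y hx hy => rw [map_add]; exact Subalgebra.add_mem _ hx hy
  haveI : IsNoetherian Ah (Algebra.adjoin Ah {(1 : Ah) ⊗ₜ[A] b}).toSubmodule :=
    isNoetherian_of_fg_of_noetherian _ hb.fg_adjoin_singleton
  haveI : Module.Finite Ah ι.range :=
    (Module.Finite.iff_fg.2 (Submodule.FG.of_le hb.fg_adjoin_singleton
      (show Subalgebra.toSubmodule ι.range ≤ Subalgebra.toSubmodule (Algebra.adjoin Ah {(1 : Ah) ⊗ₜ[A] b}) from hle)) :
        Module.Finite Ah (Subalgebra.toSubmodule ι.range))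
  haveI : Module.Finite Ah (Ah ⊗[A] S) := Module.Finite.equiv (AlgEquiv.ofInjective ι hι).symm.toLinearEquiv
  haveI : Module.Finite A S := Module.Finite.of_finite_tensorProduct_of_faithfullyFlat Ah
  exact IsIntegral.of_mem_of_fg S (Module.Finite.iff_fg.1 ‹_›) b (Algebra.self_mem_adjoin_singleton A b)

/-- **Descent of idempotents.** -/
theorem exists_idempotent_descent
    (hdense : ∀ (k : ℕ) (c : Ah), ∃ a : A, c - algebraMap A Ah a ∈ (m ^ k).map (algebraMap A Ah))
    {f : A} [HenselianRing A (Ideal.span {f})] (ρ : B →ₐ[A] G) (hρf : ρ (algebraMap A B f) = 0)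
    (R₀ : Subalgebra A B) [Module.Finite A R₀] (hR₀ : ∀ z : B, ∃ k : ℕ, ∀ a ∈ m ^ k, a • z ∈ R₀)
    (hK : ∀ z : B, ρ z = 0 → ∃ k : ℕ, ∀ a ∈ m ^ k, ∃ b : B, a • z = f • b)
    {e' : Ah ⊗[A] B} (he' : IsIdempotentElem e') {e₀ : G} (he₀ : IsIdempotentElem e₀)
    (h : Algebra.TensorProduct.map (AlgHom.id Ah Ah) ρ e' = 1 ⊗ₜ e₀) :
    ∃ e : B, IsIdempotentElem e ∧ ρ e = e₀ := by
  classical
  -- a finite subalgebra containing `e'`
  let T := B ⧸ Subalgebra.toSubmodule R₀
  let q : B →ₗ[A] T := (Subalgebra.toSubmodule R₀).mkQ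
  have htor : ∀ t : T, ∃ k : ℕ, ∀ a ∈ m ^ k, a • t = 0 := fun t => by
    obtain ⟨z, rfl⟩ := Submodule.mkQ_surjective _ t
    obtain ⟨k, hk⟩ := hR₀ z
    exact ⟨k, fun a ha => by rw [← map_smul]; exact (Submodule.Quotient.mk_eq_zero _).2 (hk a ha)⟩
  obtain ⟨t, ht⟩ := exists_eq_one_tmul_of_torsion m hdense htor (q.lTensor Ah e')
  obtain ⟨b₀, rfl⟩ := Submodule.mkQ_surjective _ t
  have hex := lTensor_exact Ah (LinearMap.exact_subtype_mkQ (Subalgebra.toSubmodule R₀)) (Submodule.mkQ_surjective _)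
  obtain ⟨r, hr⟩ := (hex (e' - 1 ⊗ₜ b₀)).1 (by rw [map_sub, LinearMap.lTensor_tmul]; exact sub_eq_zero.2 ht)
  let ι₀ : Ah ⊗[A] R₀ →ₐ[Ah] Ah ⊗[A] B := Algebra.TensorProduct.map (AlgHom.id Ah Ah) R₀.val
  have hι₀ : ∀ r : Ah ⊗[A] R₀, IsIntegral Ah r := fun r => (Algebra.IsIntegral.of_finite Ah (Ah ⊗[A] R₀)).isIntegral r
  have hr' : ι₀ r = e' - 1 ⊗ₜ b₀ := hr
  have hb₀ : IsIntegral A b₀ := isIntegral_of_isIntegral_one_tmul b₀ (by
    rw [show (1 : Ah) ⊗ₜ[A] b₀ = e' - ι₀ r by rw [hr', sub_sub_cancel]]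
    refine IsIntegral.sub ⟨Polynomial.X * Polynomial.X - Polynomial.X, ?_, ?_⟩
      ((hι₀ r).map ι₀)
    · rw [← pow_two]
      exact Polynomial.monic_X_pow_sub (lt_of_le_of_lt Polynomial.degree_X_le (by norm_num))
    · rw [Polynomial.eval₂_sub, Polynomial.eval₂_mul, Polynomial.eval₂_X, he'.eq, sub_self])
  obtain ⟨s, hs⟩ := (Module.Finite.iff_fg.1 ‹Module.Finite A R₀› : (Subalgebra.toSubmodule R₀).FG)
  let M : Subalgebra A B := Algebra.adjoin A (insert b₀ (s : Set B))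
  have hR₀M : R₀ ≤ M := fun x hx => by
    have h1 : x ∈ Submodule.span A (s : Set B) := by rw [hs]; exact hx
    exact Submodule.span_le.2 (show (↑s : Set B) ⊆ (Subalgebra.toSubmodule M : Set B) from
      fun y hy => Algebra.subset_adjoin (Set.mem_insert_of_mem _ hy)) h1
  haveI : Module.Finite A M := ⟨(Submodule.fg_top _).mpr (fg_adjoin_of_finite (s.finite_toSet.insert b₀) fun x hx => by
    rcases hx with rfl | hx
    · exact hb₀
    · have hxR : x ∈ R₀ := by
        show x ∈ Subalgebra.toSubmodule R₀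
        rw [← hs]; exact Submodule.subset_span hx
      exact (Algebra.IsIntegral.isIntegral (R := A) (⟨x, hxR⟩ : R₀)).map R₀.val)⟩
  let ιM : Ah ⊗[A] M →ₐ[Ah] Ah ⊗[A] B := Algebra.TensorProduct.map (AlgHom.id Ah Ah) M.val
  have hιM : Function.Injective ιM :=
    Module.Flat.lTensor_preserves_injective_linearMap (M := Ah) M.val.toLinearMap Subtype.val_injective
  let et : Ah ⊗[A] M := Algebra.TensorProduct.map (AlgHom.id Ah Ah) (Subalgebra.inclusion hR₀M) r +
    1 ⊗ₜ ⟨b₀, Algebra.subset_adjoin (Set.mem_insert _ _)⟩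
  have het : ιM et = e' := by
    have h1 : ιM (Algebra.TensorProduct.map (AlgHom.id Ah Ah) (Subalgebra.inclusion hR₀M) r) = ι₀ r := by
      rw [← AlgHom.comp_apply, ← Algebra.TensorProduct.map_comp]
      rfl
    rw [map_add, h1, hr']
    exact sub_add_cancel _ _
  have heti : IsIdempotentElem et := hιM (by rw [map_mul, het, he'.eq])
  -- reduce modulo `f`
  let J : Ideal M := (Ideal.span {f}).map (algebraMap A M)
  let π : M →ₐ[A] M ⧸ J := Ideal.Quotient.mkₐ A J
  let ρM : M ⧸ J →ₐ[A] G := Ideal.Quotient.liftₐ J (ρ.comp M.val) fun a ha => by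
    have hle : J ≤ RingHom.ker (ρ.comp M.val).toRingHom := by
      rw [Ideal.map_le_iff_le_comap, Ideal.span_singleton_le_iff_mem]
      exact hρf
    exact hle ha
  let eb : Ah ⊗[A] (M ⧸ J) := Algebra.TensorProduct.map (AlgHom.id Ah Ah) π et
  have hebi : IsIdempotentElem eb := heti.map _
  have hρeb : ρM.toLinearMap.lTensor Ah eb = 1 ⊗ₜ e₀ := by
    rw [← h, ← het]
    show Algebra.TensorProduct.map (AlgHom.id Ah Ah) ρM (Algebra.TensorProduct.map (AlgHom.id Ah Ah) π et) =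
      Algebra.TensorProduct.map (AlgHom.id Ah Ah) ρ (ιM et)
    rw [← AlgHom.comp_apply, ← AlgHom.comp_apply, ← Algebra.TensorProduct.map_comp, ← Algebra.TensorProduct.map_comp]
    rfl
  -- `e₀` is in the image
  obtain ⟨x₁, hx₁⟩ : ∃ x₁, ρM x₁ = e₀ := by
    have h1 : (1 : Ah) ⊗ₜ[A] (LinearMap.range ρM.toLinearMap).mkQ e₀ = 0 := by
      have hexR : Function.Exact ρM.toLinearMap (LinearMap.range ρM.toLinearMap).mkQ :=
        LinearMap.exact_iff.2 (Submodule.ker_mkQ _)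
      rw [← LinearMap.lTensor_tmul, ← hρeb]
      exact (lTensor_exact Ah hexR (Submodule.mkQ_surjective _)).apply_apply_eq_zero eb
    rw [← TensorProduct.tmul_zero _ (1 : Ah)] at h1
    exact (Submodule.Quotient.mk_eq_zero _).1 (Module.FaithfullyFlat.tensorProduct_mk_injective _ h1)
  let K := LinearMap.ker ρM.toLinearMap
  have hKtor : ∀ z : K, ∃ k : ℕ, ∀ a ∈ m ^ k, a • z = 0 := by
    rintro ⟨z, hz⟩
    obtain ⟨y, rfl⟩ := Ideal.Quotient.mk_surjective z
    obtain ⟨k, hk⟩ := hK y (LinearMap.mem_ker.1 hz)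
    let I : Ideal A := (⊥ : Submodule A (M ⧸ J)).comap (LinearMap.toSpanSingleton A (M ⧸ J) (π y))
    have hI : m ^ (k + 1) ≤ I.radical := fun a ha => by
      obtain ⟨b, hb⟩ := hk a (Ideal.pow_le_pow_right (Nat.le_succ _) ha)
      obtain ⟨k', hk'⟩ := hR₀ b
      have ham : a ∈ m := Ideal.pow_le_self (Nat.succ_ne_zero k) ha
      refine ⟨k' + 1, ?_⟩
      show a ^ (k' + 1) • π y = 0
      rw [← map_smul]
      refine Ideal.Quotient.eq_zero_iff_mem.2 ?_
      have h2 : a ^ (k' + 1) • y =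
          algebraMap A M f * ⟨a ^ k' • b, hR₀M (hk' _ (Ideal.pow_mem_pow ham k'))⟩ := Subtype.ext (by
        show a ^ (k' + 1) • (y : B) = algebraMap A B f * (a ^ k' • b)
        rw [pow_succ, mul_smul, hb, ← Algebra.smul_def, smul_comm])
      rw [h2]
      exact Ideal.mul_mem_right _ _ (Ideal.mem_map_of_mem _ (Ideal.mem_span_singleton_self f))
    obtain ⟨N, hN⟩ := Ideal.exists_pow_le_of_le_radical_of_fg hI (IsNoetherian.noetherian _)
    exact ⟨(k + 1) * N, fun a ha => Subtype.ext (hN (by rwa [← pow_mul]))⟩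
  have hexK := Module.Flat.lTensor_exact Ah (LinearMap.exact_subtype_ker_map ρM.toLinearMap)
  obtain ⟨κ, hκ⟩ := (hexK (eb - 1 ⊗ₜ x₁)).1 (by
    rw [map_sub, hρeb, LinearMap.lTensor_tmul]; exact sub_eq_zero.2 (congrArg _ hx₁.symm))
  obtain ⟨t, rfl⟩ := exists_eq_one_tmul_of_torsion m hdense hKtor κ
  rw [LinearMap.lTensor_tmul] at hκ
  let x := x₁ + (t : M ⧸ J)
  have hxe : (1 : Ah) ⊗ₜ[A] x = eb := by
    rw [TensorProduct.tmul_add]
    exact (add_comm _ _).trans (eq_sub_iff_add_eq.1 hκ)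
  have hxi : IsIdempotentElem x := Module.FaithfullyFlat.tensorProduct_mk_injective (B := Ah) _ (by
    show (1 : Ah) ⊗ₜ[A] (x * x) = 1 ⊗ₜ[A] x
    rw [← one_mul (1 : Ah), ← Algebra.TensorProduct.tmul_mul_tmul, one_mul, hxe, hebi.eq])
  haveI : Algebra.IsIntegral A M := Algebra.IsIntegral.of_finite A M
  obtain ⟨y, hy⟩ := Ideal.Quotient.mk_surjective x
  obtain ⟨e, he, hey⟩ := HenselLib.exists_idempotent_lift (I := Ideal.span {f}) y (by
    rw [← Ideal.Quotient.eq, map_mul, hy]; exact hxi)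
  refine ⟨(e : B), congrArg Subtype.val he, ?_⟩
  show ρM (π e) = e₀
  rw [show π e = x from (Ideal.Quotient.eq.2 hey).trans hy, map_add, hx₁,
    show ρM (t : M ⧸ J) = 0 from LinearMap.mem_ker.1 t.2, add_zero]

end PunctLefLib
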