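import Groth.Agent.KoszLcLib.Basic
import Mathlib

/-!
# Annihilation of localised cocycles, and its inheritance by locally projective modules
-/

set_option autoImplicit false
set_option linter.style.haveILetI false
universe u

noncomputable section

namespace PunctLefLib

open KoszLcLib

variable {A : Type u} [CommRing A] {r : ℕ} (f : Fin r → A)
variable {M N : Type u} [AddCommGroup M] [Module A M] [AddCommGroup N] [Module A N]

theorem qmap_id (p : ℕ) (J : Fin p → Fin r) : qmap (f := f) (LinearMap.id : M →ₗ[A] M) p J = LinearMap.id :=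
  IsLocalizedModule.map_id (S f J) (LocalizedModule.mkLinearMap (S f J) M)

theorem cmap_comp {P : Type u} [AddCommGroup P] [Module A P] (g : M →ₗ[A] N) (g' : N →ₗ[A] P) (p : ℕ)
    (c : (sys f M).CQ p) : cmap (g'.comp g) p c = cmap g' p (cmap g p c) := funext fun J =>
  LinearMap.congr_fun (IsLocalizedModule.map_comp' (S f J) (LocalizedModule.mkLinearMap (S f J) M)
    (LocalizedModule.mkLinearMap (S f J) N) (LocalizedModule.mkLinearMap (S f J) P) g g') (c J)

theorem cmap_smul_id (a : A) (p : ℕ) (c : (sys f M).CQ p) :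
    cmap (a • (LinearMap.id : M →ₗ[A] M)) p c = a • c := funext fun J => by
  show IsLocalizedModule.map (S f J) _ _ (a • LinearMap.id) (c J) = a • c J
  rw [map_smul]
  exact congrArg (a • ·) (LinearMap.congr_fun (qmap_id f p J) (c J))

theorem cmap_sum {ι : Type*} (s : Finset ι) (g : ι → M →ₗ[A] N) (p : ℕ) (c : (sys f M).CQ p) :
    cmap (∑ l ∈ s, g l) p c = ∑ l ∈ s, cmap (g l) p c := funext fun J => by
  show IsLocalizedModule.map (S f J) _ _ (∑ l ∈ s, g l) (c J) = (∑ l ∈ s, cmap (g l) p c) J
  rw [map_sum, LinearMap.sum_apply, Finset.sum_apply]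
  rfl

/-- Multiplication by `g` kills the cohomology in degree `p + 1`. -/
def Kills (g : A) (p : ℕ) (M : Type u) [AddCommGroup M] [Module A M] : Prop :=
  ∀ c : (sys f M).CQ (p + 1), (sys f M).dQ (p + 1) c = 0 → ∃ b, (sys f M).dQ p b = g • c

variable {f}

theorem Kills.mul_right {g : A} {p : ℕ} (h : Kills f g p M) (g' : A) : Kills f (g * g') p M := fun c hc => by
  obtain ⟨b, hb⟩ := h c hc
  exact ⟨g' • b, by rw [map_smul, hb, smul_smul, mul_comm]⟩

theorem Kills.of_retract {g g' : A} {p : ℕ} (hN : Kills f g p N) {ι : Type*} [Fintype ι] (μ : ι → M →ₗ[A] N)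
    (σ : ι → N →ₗ[A] M) (h : ∑ l, (σ l).comp (μ l) = g' • LinearMap.id) : Kills f (g * g') p M := fun c hc => by
  have hz : ∀ l, (sys f N).dQ (p + 1) (cmap (μ l) (p + 1) c) = 0 := fun l => by
    rw [← LinearMap.comp_apply, cmap_d, LinearMap.comp_apply, hc, map_zero]
  choose b hb using fun l => hN _ (hz l)
  refine ⟨∑ l, cmap (σ l) p (b l), ?_⟩
  have h1 : ∀ l, (sys f M).dQ p (cmap (σ l) p (b l)) = g • cmap ((σ l).comp (μ l)) (p + 1) c := fun l => by
    rw [← LinearMap.comp_apply, cmap_d, LinearMap.comp_apply, hb, map_smul, cmap_comp]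
  rw [map_sum, Finset.sum_congr rfl fun l _ => h1 l, ← Finset.smul_sum, ← cmap_sum, h, cmap_smul_id, smul_smul]

/-- A finite module which is projective on the pieces is a retract of a free module up to a power. -/
theorem exists_retract [IsNoetherianRing A] [Module.Finite A M]
    (hproj : ∀ i, Module.Projective (Localization (Submonoid.powers (f i)))
      (LocalizedModule (Submonoid.powers (f i)) M))
    {x : A} (hx : x ∈ (Ideal.span (Set.range f)).radical) :
    ∃ (e t : ℕ) (μ : Fin t → M →ₗ[A] A) (σ : Fin t → A →ₗ[A] M),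
      ∑ l, (σ l).comp (μ l) = x ^ e • LinearMap.id := by
  obtain ⟨t, m, hm⟩ := Module.Finite.exists_fin (R := A) (M := M)
  let π : (Fin t → A) →ₗ[A] M := Fintype.linearCombination A m
  have hπ : ∀ h : M →ₗ[A] (Fin t → A), π.comp h =
      ∑ l, ((LinearMap.id : A →ₗ[A] A).smulRight (m l)).comp ((LinearMap.proj l).comp h) := fun h =>
    LinearMap.ext fun z => by simp [π, Fintype.linearCombination_apply]
  let I : Ideal A :=
    { carrier := {a | ∃ h : M →ₗ[A] (Fin t → A), π.comp h = a • LinearMap.id}
      add_mem' := fun {a b} ⟨h, hh⟩ ⟨h', hh'⟩ => ⟨h + h', by rw [LinearMap.comp_add, hh, hh', add_smul]⟩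
      zero_mem' := ⟨0, by rw [LinearMap.comp_zero, zero_smul]⟩
      smul_mem' := fun a b ⟨h, hh⟩ => ⟨a • h, by rw [LinearMap.comp_smul, hh, smul_smul, smul_eq_mul]⟩ }
  have hI : Ideal.span (Set.range f) ≤ I.radical := Ideal.span_le.2 (by
    rintro _ ⟨i, rfl⟩
    let P := Submonoid.powers (f i)
    haveI := hproj i
    let Ai := Localization P
    let Mi := LocalizedModule P M
    let πi : (Fin t → Ai) →ₗ[Ai] Mi := Fintype.linearCombination Ai fun l => LocalizedModule.mkLinearMap P M (m l)
    have hπi : Function.Surjective πi := by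
      intro z
      induction z using LocalizedModule.induction_on with
      | h z s =>
        obtain ⟨w, hw⟩ := Submodule.mem_span_range_iff_exists_fun A |>.1 (hm.ge (Submodule.mem_top (x := z)))
        refine ⟨(Localization.mk 1 s) • fun l => algebraMap A Ai (w l), ?_⟩
        rw [map_smul, Fintype.linearCombination_apply]
        simp only [algebraMap_smul]
        rw [← map_sum_smul_mkLinearMap w, hw, LocalizedModule.mkLinearMap_apply, LocalizedModule.mk_smul_mk, one_smul,
          mul_one]
    obtain ⟨τ, hτ⟩ := πi.exists_rightInverse_of_surjective (LinearMap.range_eq_top.2 hπi)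
    let loc : (Fin t → A) →ₗ[A] (Fin t → Ai) := LinearMap.compLeft (Algebra.linearMap A Ai) (Fin t)
    haveI : IsLocalizedModule P loc := IsLocalizedModule.pi P fun _ => Algebra.linearMap A Ai
    haveI : Module.FinitePresentation A M := Module.finitePresentation_of_finite A M
    obtain ⟨h, s, hs⟩ := Module.FinitePresentation.exists_lift_of_isLocalizedModule P loc
      ((τ.restrictScalars A).comp (LocalizedModule.mkLinearMap P M))
    have key : ∀ z : M, LocalizedModule.mkLinearMap P M (π (h z) - (s : A) • z) = 0 := fun z => by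
      have h1 : πi (loc (h z)) = LocalizedModule.mkLinearMap P M (π (h z)) := by
        simp only [πi, π, loc, Fintype.linearCombination_apply, LinearMap.compLeft_apply, Function.comp_apply,
          Algebra.linearMap_apply, algebraMap_smul, map_sum, map_smul]
      have h2 : loc (h z) = (s : A) • τ (LocalizedModule.mkLinearMap P M z) := LinearMap.congr_fun hs z
      rw [map_sub, map_smul, sub_eq_zero, ← h1, h2, LinearMap.map_smul_of_tower]
      exact congrArg ((s : A) • ·) (LinearMap.congr_fun hτ _)
    have key2 : ∀ l, ∃ n : ℕ, f i ^ n • (π (h (m l)) - (s : A) • m l) = 0 := fun l => by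
      obtain ⟨⟨_, n, rfl⟩, hn⟩ := (IsLocalizedModule.eq_zero_iff P (LocalizedModule.mkLinearMap P M)).1 (key (m l))
      exact ⟨n, hn⟩
    choose n hn using key2
    obtain ⟨k, hk⟩ := s.2
    let e := ∑ l, n l
    refine ⟨e + k, f i ^ e • h, LinearMap.ext_on_range hm fun l => ?_⟩
    rw [LinearMap.comp_smul, LinearMap.smul_apply, LinearMap.smul_apply, LinearMap.comp_apply, LinearMap.id_apply,
      ← sub_eq_zero, pow_add, mul_smul, show f i ^ k = (s : A) from hk, ← smul_sub]
    obtain ⟨d, hd⟩ := Nat.exists_eq_add_of_le (Finset.single_le_sum (fun l _ => Nat.zero_le (n l)) (Finset.mem_univ l))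
    rw [show e = n l + d from hd, add_comm, pow_add, mul_smul, hn, smul_zero])
  obtain ⟨e, h, hh⟩ := I.radical_idem ▸ Ideal.radical_mono hI hx
  exact ⟨e, t, fun l => (LinearMap.proj l).comp h, fun l => (LinearMap.id : A →ₗ[A] A).smulRight (m l),
    (hπ h).symm.trans hh⟩
where
  map_sum_smul_mkLinearMap {t : ℕ} {m : Fin t → M} {i : Fin r} (w : Fin t → A) :
      LocalizedModule.mkLinearMap (Submonoid.powers (f i)) M (∑ l, w l • m l) =
        ∑ l, w l • LocalizedModule.mkLinearMap (Submonoid.powers (f i)) M (m l) := by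
    simp only [map_sum, map_smul]

/-- The annihilation is inherited from the base ring. -/
theorem exists_kills [IsNoetherianRing A] [Module.Finite A M]
    (hproj : ∀ i, Module.Projective (Localization (Submonoid.powers (f i)))
      (LocalizedModule (Submonoid.powers (f i)) M))
    {x : A} (hx : x ∈ (Ideal.span (Set.range f)).radical) {p n : ℕ} (h : Kills f (x ^ n) p A) :
    ∃ k, Kills f (x ^ k) p M := by
  obtain ⟨e, t, μ, σ, hσ⟩ := exists_retract hproj hx
  exact ⟨n + e, by rw [pow_add]; exact h.of_retract μ σ hσ⟩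

/-- Torsion in the localisations is bounded. -/
theorem exists_torsion_bound [IsNoetherianRing A] [Module.Finite A M] (x : A) :
    ∃ c₀ : ℕ, ∀ (p : ℕ) (J : Fin p → Fin r) (z : Q f M p J) (m : ℕ), x ^ m • z = 0 → x ^ c₀ • z = 0 := by
  let T : ℕ →o Submodule A M :=
    ⟨fun n => LinearMap.ker (x ^ n • (LinearMap.id : M →ₗ[A] M)), monotone_nat_of_le_succ fun n v hv => by
      simp only [LinearMap.mem_ker, LinearMap.smul_apply, LinearMap.id_apply] at hv ⊢
      rw [pow_succ', mul_smul, hv, smul_zero]⟩
  obtain ⟨c₀, hc₀⟩ := (monotone_stabilizes_iff_noetherian (R := A) (M := M)).2 inferInstance T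
  refine ⟨c₀, fun p J z m hz => ?_⟩
  induction z using LocalizedModule.induction_on with
  | h v s =>
    rw [LocalizedModule.smul'_mk, ← LocalizedModule.zero_mk (1 : S f J), LocalizedModule.mk_eq] at hz
    obtain ⟨u, hu⟩ := hz
    simp only [one_smul, smul_zero] at hu
    have h1 : (u : A) • v ∈ T (max c₀ m) := by
      show x ^ max c₀ m • ((u : A) • v) = 0
      obtain ⟨d, hd⟩ := Nat.exists_eq_add_of_le (le_max_right c₀ m)
      rw [hd, add_comm, pow_add, mul_smul, smul_comm (x ^ m), show (u : A) • x ^ m • v = 0 from hu, smul_zero]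
    rw [← hc₀ _ (le_max_left c₀ m)] at h1
    rw [LocalizedModule.smul'_mk, ← LocalizedModule.zero_mk (1 : S f J), LocalizedModule.mk_eq]
    refine ⟨u, ?_⟩
    simp only [one_smul, smul_zero, Submonoid.smul_def]
    rw [smul_comm]
    exact h1

end PunctLefLib
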