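import Groth.Agent.PunctLefLib.Punctured
import Groth.Agent.LocCohLib.Facts
import Groth.Agent.CommAlgDim.Depth
import Groth.Agent.HenselLib.Perm
import Groth.Agent.ClopenFFLib.Basic

/-!
# Full faithfulness on punctured spectra
-/

set_option autoImplicit false
universe u

open CategoryTheory CategoryTheory.Limits AlgebraicGeometry

noncomputable section

namespace PunctLefLib

variable {A : Type u} [CommRing A] [IsNoetherianRing A] [IsLocalRing A]

theorem puncturedSpec_eq {r : ℕ} (g : Fin r → A) (hg : Ideal.span (Set.range g) = IsLocalRing.maximalIdeal A) :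
    (FEt.puncturedSpec A : Set ↥(Spec (CommRingCat.of A))) = (PrimeSpectrum.zeroLocus (Set.range g))ᶜ := by
  rw [← PrimeSpectrum.zeroLocus_span (Set.range g), hg, (PrimeSpectrum.zeroLocus_eq_singleton (IsLocalRing.maximalIdeal A))]
  rfl

theorem fullFaithful {f : A} (hf : f ∈ IsLocalRing.maximalIdeal A)
    (h1 : ∃ n : ℕ, ∀ x : LocCoh.H (IsLocalRing.maximalIdeal A) 1 A, (f ^ n) • x = 0)
    (h2 : ∃ n : ℕ, ∀ x : LocCoh.H (IsLocalRing.maximalIdeal A) 2 A, (f ^ n) • x = 0) [HenselianRing A (Ideal.span {f})] :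
    (FEt.restrict (pullback.fst (FEt.puncturedSpec A).ι (Spec.map (CommRingCat.ofHom (Ideal.Quotient.mk (Ideal.span {f})))))).Full ∧
    (FEt.restrict (pullback.fst (FEt.puncturedSpec A).ι (Spec.map (CommRingCat.ofHom (Ideal.Quotient.mk (Ideal.span {f})))))).Faithful := by
  obtain ⟨s, hs⟩ := IsNoetherian.noetherian (IsLocalRing.maximalIdeal A)
  let fs := s.toList
  have hfs : Ideal.span {a | a ∈ fs} = IsLocalRing.maximalIdeal A := by
    rw [← hs]; congr 1; ext a; simp [fs]
  have hrg : Ideal.span (Set.range fs.get) = IsLocalRing.maximalIdeal A := by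
    rw [← hfs, Set.range_list_get]
  obtain ⟨n₁, hn₁⟩ := h1
  obtain ⟨n₂, hn₂⟩ := h2
  exact ClopenFFLib.full_faithful _ (clopenBij fs.get (puncturedSpec_eq _ hrg) (by rw [hrg]; exact Ideal.le_radical hf)
    ⟨n₁, kills_of_smul_H fs _ hfs hn₁⟩ ⟨n₂, kills_of_smul_H fs _ hfs hn₂⟩)

theorem subsingleton_H_of_depth {n : ℕ} (hA : (n : ℕ∞) ≤ LocCoh.depth A A) {i : ℕ} (hi : i < n) :
    Subsingleton (LocCoh.H (IsLocalRing.maximalIdeal A) i A) :=
  (LocCohLib.hasSeqIn_iff_subsingleton_H n A).1 ((CommAlgDim.le_depth_iff n).1 hA) i hi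

end PunctLefLib
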