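import Groth.Agent.PunctLefLib.Kill

/-!
# Localised cochains of the functions on a quasi-compact quasi-separated scheme
-/

set_option autoImplicit false
set_option linter.style.haveILetI false
universe u

open CategoryTheory AlgebraicGeometry Opposite TopologicalSpace

noncomputable section

namespace PunctLefLib

open KoszLcLib KoszLib

variable {A : Type u} [CommRing A] {r : ℕ} (f : Fin r → A) (W : Scheme.{u}) [Algebra A Γ(W, ⊤)]

/-- The open of the tuple. -/
def D {p : ℕ} (J : Fin p → Fin r) : W.Opens := W.basicOpen (algebraMap A Γ(W, ⊤) (prodF f J))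

theorem mem_D_iff {p : ℕ} (J : Fin p → Fin r) (t : W) :
    t ∈ D f W J ↔ ∀ a, t ∈ W.basicOpen (algebraMap A Γ(W, ⊤) (f (J a))) := by
  simp only [D, Scheme.mem_basicOpen_top, prodF, map_prod, IsUnit.prod_iff]
  exact ⟨fun h a => h _ (mem_img.2 ⟨a, rfl⟩), fun h i hi => by obtain ⟨a, rfl⟩ := mem_img.1 hi; exact h a⟩

theorem D_le_face {p : ℕ} (J : Fin (p + 1) → Fin r) (k : Fin (p + 1)) : D f W J ≤ D f W (J ∘ k.succAbove) :=
  fun t ht => (mem_D_iff f W _ t).2 fun _ => (mem_D_iff f W J t).1 ht _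

/-- The restriction of a global function. -/
abbrev toD {p : ℕ} (J : Fin p → Fin r) : Γ(W, ⊤) →+* Γ(W, D f W J) :=
  (W.presheaf.map (homOfLE (le_top : D f W J ≤ ⊤)).op).hom

instance algD {p : ℕ} (J : Fin p → Fin r) : Algebra A Γ(W, D f W J) :=
  ((toD f W J).comp (algebraMap A Γ(W, ⊤))).toAlgebra

/-- Restriction of global functions, linearly. -/
def toDL {p : ℕ} (J : Fin p → Fin r) : Γ(W, ⊤) →ₗ[A] Γ(W, D f W J) where
  toFun := toD f W J
  map_add' := map_add _
  map_smul' a x := by rw [Algebra.smul_def, map_mul]; exact (Algebra.smul_def a _).symm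

theorem toDL_apply {p : ℕ} (J : Fin p → Fin r) (x : Γ(W, ⊤)) : toDL f W J x = toD f W J x := rfl

/-- Restriction to a face. -/
def resF {p : ℕ} (J : Fin (p + 1) → Fin r) (k : Fin (p + 1)) :
    Γ(W, D f W (J ∘ k.succAbove)) →ₗ[A] Γ(W, D f W J) where
  toFun := W.presheaf.map (homOfLE (D_le_face f W J k)).op
  map_add' := map_add _
  map_smul' a x := by
    rw [Algebra.smul_def, map_mul, RingHom.id_apply, Algebra.smul_def]
    congr 1
    show (W.presheaf.map (homOfLE le_top).op ≫ W.presheaf.map (homOfLE _).op) (algebraMap A Γ(W, ⊤) a) = _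
    rw [← Functor.map_comp]
    rfl

theorem resF_apply {p : ℕ} (J : Fin (p + 1) → Fin r) (k : Fin (p + 1)) (x : Γ(W, D f W (J ∘ k.succAbove))) :
    resF f W J k x = W.presheaf.map (homOfLE (D_le_face f W J k)).op x := rfl

omit [Algebra A Γ(W, ⊤)] in
theorem map_map {a b c : W.Opens} (h₁ : b ≤ a) (h₂ : c ≤ b) (x : Γ(W, a)) :
    W.presheaf.map (homOfLE h₂).op (W.presheaf.map (homOfLE h₁).op x) =
      W.presheaf.map (homOfLE (h₂.trans h₁)).op x := by
  rw [← CommRingCat.comp_apply, ← Functor.map_comp]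
  rfl

theorem resF_toD {p : ℕ} (J : Fin (p + 1) → Fin r) (k : Fin (p + 1)) (x : Γ(W, ⊤)) :
    resF f W J k (toD f W (J ∘ k.succAbove) x) = toD f W J x := by
  show (W.presheaf.map (homOfLE le_top).op ≫ W.presheaf.map (homOfLE _).op) x = _
  rw [← Functor.map_comp]
  rfl

variable [CompactSpace W] [QuasiSeparatedSpace W]

instance isLocalizedModule_toDL {p : ℕ} (J : Fin p → Fin r) : IsLocalizedModule (S f J) (toDL f W J) := by
  letI : Algebra Γ(W, ⊤) Γ(W, D f W J) := (toD f W J).toAlgebra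
  haveI : IsScalarTower A Γ(W, ⊤) Γ(W, D f W J) := IsScalarTower.of_algebraMap_eq fun _ => rfl
  haveI h : IsLocalization.Away (algebraMap A Γ(W, ⊤) (prodF f J)) Γ(W, D f W J) :=
    isLocalization_basicOpen_of_qcqs isCompact_univ (isQuasiSeparated_univ) _
  have h2 : IsLocalization (Algebra.algebraMapSubmonoid Γ(W, ⊤) (S f J)) Γ(W, D f W J) := by
    rw [Algebra.algebraMapSubmonoid_powers]
    exact h
  exact (isLocalizedModule_iff_isLocalization (S := S f J) (A := Γ(W, ⊤)) (Aₛ := Γ(W, D f W J))).2 h2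

/-- Localised functions are functions on the open. -/
def Φ {p : ℕ} (J : Fin p → Fin r) : Q f Γ(W, ⊤) p J ≃ₗ[A] Γ(W, D f W J) :=
  IsLocalizedModule.iso (S f J) (toDL f W J)

theorem Φ_mk {p : ℕ} (J : Fin p → Fin r) (x : Γ(W, ⊤)) : Φ f W J (LocalizedModule.mk x 1) = toD f W J x :=
  IsLocalizedModule.iso_apply_mk_one (S f J) (toDL f W J) x
where
  IsLocalizedModule.iso_apply_mk_one (S : Submonoid A) {M N : Type u} [AddCommGroup M] [Module A M]
      [AddCommGroup N] [Module A N] (g : M →ₗ[A] N) [IsLocalizedModule S g] (x : M) :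
      IsLocalizedModule.iso S g (LocalizedModule.mk x 1) = g x := by
    simp [IsLocalizedModule.iso_apply_mk]

theorem Φ_rs {p : ℕ} (J : Fin (p + 1) → Fin r) (k : Fin (p + 1)) (z : Q f Γ(W, ⊤) p (J ∘ k.succAbove)) :
    Φ f W J (rs f Γ(W, ⊤) J k z) = resF f W J k (Φ f W (J ∘ k.succAbove) z) := by
  have h : (Φ f W J).toLinearMap.comp (rs f Γ(W, ⊤) J k) =
      (resF f W J k).comp (Φ f W (J ∘ k.succAbove)).toLinearMap := by
    refine IsLocalizedModule.ext (S f (J ∘ k.succAbove)) (LocalizedModule.mkLinearMap _ _) (fun x => ?_)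
      (LinearMap.ext fun x => ?_)
    · obtain ⟨n, hn⟩ := x.2
      have h1 := IsLocalizedModule.map_units (toDL f W J) (el f n J)
      rw [show ((el f n J : S f J) : A) = prodF f J ^ n from rfl, ← face_mul f J k, mul_pow, map_mul] at h1
      rw [show (x : A) = prodF f (J ∘ k.succAbove) ^ n from hn.symm]
      exact ((Commute.isUnit_mul_iff (Algebra.commute_algebraMap_left _ _)).1 h1).1
    · show Φ f W J (rs f _ J k (LocalizedModule.mk x 1)) = resF f W J k (Φ f W _ (LocalizedModule.mk x 1))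
      rw [rs_mk_one, Φ_mk, Φ_mk, resF_toD]
  exact LinearMap.congr_fun h z

/-- Families of sections. -/
abbrev Sec (p : ℕ) : Type u := ∀ J : Fin p → Fin r, Γ(W, D f W J)

/-- The differential on families of sections. -/
def dS (p : ℕ) : Sec f W p →ₗ[A] Sec f W (p + 1) :=
  LinearMap.pi fun J => ∑ k : Fin (p + 1), (-1 : A) ^ (k : ℕ) • (resF f W J k).comp (LinearMap.proj (J ∘ k.succAbove))

omit [CompactSpace W] [QuasiSeparatedSpace W] in
theorem dS_apply (p : ℕ) (y : Sec f W p) (J : Fin (p + 1) → Fin r) :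
    dS f W p y J = ∑ k : Fin (p + 1), (-1 : A) ^ (k : ℕ) • resF f W J k (y (J ∘ k.succAbove)) := by
  simp [dS]

/-- Cochains as families of sections. -/
def Ψ (p : ℕ) : (sys f Γ(W, ⊤)).CQ p ≃ₗ[A] Sec f W p := LinearEquiv.piCongrRight fun J => Φ f W J

theorem Ψ_d (p : ℕ) (c : (sys f Γ(W, ⊤)).CQ p) : Ψ f W (p + 1) ((sys f _).dQ p c) = dS f W p (Ψ f W p c) := by
  funext J
  rw [dS_apply]
  show Φ f W J ((sys f _).dQ p c J) = _
  rw [LimSys.dQ_apply, map_sum]
  refine Finset.sum_congr rfl fun k _ => ?_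
  rw [map_smul]
  exact congrArg _ (Φ_rs f W J k _)

variable (hcov : ⨆ i, W.basicOpen (algebraMap A Γ(W, ⊤) (f i)) = ⊤)

include hcov

omit [CompactSpace W] [QuasiSeparatedSpace W] in
theorem iSup_D : ⨆ J : Fin 1 → Fin r, D f W J = ⊤ := by
  refine eq_top_iff.2 fun t ht => ?_
  rw [← hcov] at ht
  obtain ⟨i, hi⟩ := Opens.mem_iSup.1 ht
  exact Opens.mem_iSup.2 ⟨fun _ => i, (mem_D_iff f W _ t).2 fun _ => hi⟩

omit [CompactSpace W] [QuasiSeparatedSpace W] in
theorem toD_jointly_injective {x y : Γ(W, ⊤)}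
    (h : ∀ J : Fin 1 → Fin r, toD f W J x = toD f W J y) : x = y :=
  TopCat.Sheaf.eq_of_locally_eq' W.sheaf (fun J : Fin 1 → Fin r => D f W J) ⊤ (fun _ => homOfLE le_top)
    (iSup_D f W hcov).ge x y h

omit [CompactSpace W] [QuasiSeparatedSpace W] in
/-- Cocycles in degree one are global functions. -/
theorem exists_of_dS_eq_zero {y : Sec f W 1} (hy : dS f W 1 y = 0) :
    ∃ x : Γ(W, ⊤), ∀ J, toD f W J x = y J := by
  have key : ∀ (J₁ J₂ : Fin 1 → Fin r), W.presheaf.map (homOfLE inf_le_left : D f W J₁ ⊓ D f W J₂ ⟶ D f W J₁).op (y J₁) =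
      W.presheaf.map (homOfLE inf_le_right : D f W J₁ ⊓ D f W J₂ ⟶ D f W J₂).op (y J₂) := by
    intro J₁ J₂
    let J : Fin 2 → Fin r := ![J₁ 0, J₂ 0]
    have h0 : J ∘ (0 : Fin 2).succAbove = J₂ := funext fun a => by
      rw [Subsingleton.elim a 0]; rfl
    have h1 : J ∘ (1 : Fin 2).succAbove = J₁ := funext fun a => by
      rw [Subsingleton.elim a 0]; rfl
    have hD : D f W J₁ ⊓ D f W J₂ ≤ D f W J := fun t ht => (mem_D_iff f W J t).2 fun a => by
      fin_cases a
      · exact (mem_D_iff f W J₁ t).1 ht.1 0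
      · exact (mem_D_iff f W J₂ t).1 ht.2 0
    have h := congrFun hy J
    rw [dS_apply, Fin.sum_univ_two] at h
    simp only [Fin.val_zero, pow_zero, one_smul, Fin.val_one, pow_one, neg_one_smul, Pi.zero_apply,
      ← sub_eq_add_neg, sub_eq_zero] at h
    have aux : ∀ (k : Fin 2) (K : Fin 1 → Fin r) (e : J ∘ k.succAbove = K) (le : D f W J₁ ⊓ D f W J₂ ≤ D f W K),
        W.presheaf.map (homOfLE hD).op (resF f W J k (y (J ∘ k.succAbove))) =
          W.presheaf.map (homOfLE le).op (y K) := by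
      intro k K e le
      subst e
      rw [resF_apply, map_map]
    have := congrArg (W.presheaf.map (homOfLE hD).op) h
    rw [aux 0 J₂ h0 inf_le_right, aux 1 J₁ h1 inf_le_left] at this
    exact this.symm
  obtain ⟨x, hx, -⟩ := TopCat.Sheaf.existsUnique_gluing' W.sheaf (fun J : Fin 1 → Fin r => D f W J) ⊤
    (fun _ => homOfLE le_top) (iSup_D f W hcov).ge y key
  exact ⟨x, hx⟩

end PunctLefLib
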