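import Groth.Agent.PunctLefLib.Extend
import Groth.Agent.LcFinLib.DualKill
import Groth.Agent.DualCxLib.Depth
import Groth.Agent.DualCxLib.DimFnLocal
import Groth.Agent.LocSuppLib.DepthStalk
import Groth.Agent.CommAlgDim.Depth

/-!
# Powers of `f` killing local cohomology, by local duality
-/

set_option autoImplicit false
set_option linter.style.haveILetI false
universe u

open CategoryTheory CategoryTheory.Limits

attribute [local instance] HasDerivedCategory.standard

noncomputable section

namespace PunctLefLib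

open Groth.Agent Groth.Agent.DualCxLib

variable {A : Type u} [CommRing A] [IsNoetherianRing A] [IsLocalRing A] {ω : Dual.D A}

theorem exists_pow_kill_of_depth (hω : Dual.IsDualizing A ω) (f : A) (i : ℕ)
    (h : ∀ p : PrimeSpectrum A, f ∉ p.asIdeal → ∀ e δ : ℕ, ringKrullDim (A ⧸ p.asIdeal) = e → e + δ = i →
      ((δ + 1 : ℕ) : ℕ∞) ≤ LocCoh.depth (Localization.AtPrime p.asIdeal) (Localization.AtPrime p.asIdeal)) :
    ∃ n : ℕ, ∀ x : LocCoh.H (IsLocalRing.maximalIdeal A) i A, (f ^ n) • x = 0 := by
  let j : ℤ := deg hω (closedPt A) - i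
  haveI : IsNoetherian A (Ext ω (ModuleCat.of A A) j) := Ext_finite hω A j
  have hvan : ∀ p : PrimeSpectrum A, f ∉ p.asIdeal → Van p.asIdeal (Ext ω (ModuleCat.of A A) j) := fun p hp => by
    have hle : deg hω p ≤ deg hω (closedPt A) := (deg_strictMono hω).monotone (le_closedPt p)
    obtain ⟨e, he⟩ := Int.eq_ofNat_of_zero_le (sub_nonneg.2 hle)
    have hdim : ringKrullDim (A ⧸ p.asIdeal) = e := by
      rw [ringKrullDim_quotient_eq hω p, he]; rfl
    rcases lt_or_ge i e with hie | hie
    · exact van_of_gt hω p j (by omega)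
    · have hd : ((i - e + 1 : ℕ) : ℕ∞) ≤
          LocCoh.depth (Localization.AtPrime p.asIdeal) (LocalizedModule p.asIdeal.primeCompl A) := by
        rw [CommAlgDim.depth_congr ((IsLocalizedModule.iso p.asIdeal.primeCompl
          (Algebra.linearMap A (Localization.AtPrime p.asIdeal))).extendScalarsOfIsLocalization p.asIdeal.primeCompl _)]
        exact h p hp e (i - e) hdim (by omega)
      have h2 := (le_depth_iff_van hω p (i - e + 1) A).1 hd (i - e) (by omega)
      rwa [show deg hω p - ((i - e : ℕ) : ℤ) = j by omega] at h2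
  have hrad : f ∈ (Module.annihilator A (Ext ω (ModuleCat.of A A) j)).radical := by
    rw [Ideal.radical_eq_sInf, Submodule.mem_sInf]
    rintro P ⟨hle, hP⟩
    by_contra hfP
    have hs : (⟨P, hP⟩ : PrimeSpectrum A) ∈ Module.support A (Ext ω (ModuleCat.of A A) j) := by
      rw [Module.support_eq_zeroLocus]
      exact hle
    exact mem_support_iff_not_van.1 hs (hvan ⟨P, hP⟩ hfP)
  obtain ⟨n, hn⟩ := hrad
  refine ⟨n, fun x => ?_⟩
  obtain ⟨s, hs, hsx⟩ := (LcFinLib.locally_killed_iff (IsLocalRing.closedPoint A) hω A i (f ^ n)).2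
    (fun g => ⟨1, fun h1 => (IsLocalRing.maximalIdeal.isMaximal A).ne_top ((Ideal.eq_top_iff_one _).2 h1), by
      rw [Module.mem_annihilator.1 hn g, smul_zero]⟩) x
  have hu : IsUnit s := IsLocalRing.notMem_maximalIdeal.1 hs
  exact hu.smul_eq_zero.1 hsx

theorem min_height_le_depth {f : A} (hS : LocCoh.HasSk 2 (Localization.Away f) (Localization.Away f))
    (p : PrimeSpectrum A) (hp : f ∉ p.asIdeal) :
    min (2 : WithBot ℕ∞) (p.asIdeal.height : WithBot ℕ∞) ≤
      ((LocCoh.depth (Localization.AtPrime p.asIdeal) (Localization.AtPrime p.asIdeal) : ℕ∞) : WithBot ℕ∞) := by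
  have hdisj : Disjoint (Submonoid.powers f : Set A) (p.asIdeal : Set A) :=
    (Ideal.disjoint_powers_iff_notMem f p.isPrime.isRadical).2 hp
  let P : Ideal (Localization.Away f) := p.asIdeal.map (algebraMap A _)
  haveI hP : P.IsPrime := IsLocalization.isPrime_of_isPrime_disjoint (Submonoid.powers f) _ _ p.isPrime hdisj
  have hcomap : P.comap (algebraMap A _) = p.asIdeal :=
    IsLocalization.under_map_of_isPrime_disjoint (Submonoid.powers f) _ p.isPrime hdisj
  let S := Localization.AtPrime P
  haveI : IsLocalization.AtPrime S p.asIdeal := by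
    convert IsLocalization.isLocalization_isLocalization_atPrime_isLocalization (Submonoid.powers f) (T := S) P
    exact hcomap.symm
  have h := hS P
  let e := (IsLocalizedModule.iso P.primeCompl (Algebra.linearMap (Localization.Away f) S)).extendScalarsOfIsLocalization
    P.primeCompl S
  rw [CommAlgDim.depth_congr e, Module.supportDim_eq_of_equiv e, Module.supportDim_self_eq_ringKrullDim,
    IsLocalization.AtPrime.ringKrullDim_eq_height p.asIdeal S] at h
  refine h.trans (le_of_eq ?_)
  haveI : IsNoetherianRing S := IsLocalization.isNoetherianRing p.asIdeal.primeCompl _ inferInstance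
  have hiff : ∀ n : ℕ, (n : ℕ∞) ≤ LocCoh.depth S S ↔
      (n : ℕ∞) ≤ LocCoh.depth (Localization.AtPrime p.asIdeal) (Localization.AtPrime p.asIdeal) := fun n => by
    rw [LocSuppLib.le_depth_iff_localization p.asIdeal (M := A) (N := S) (Algebra.linearMap A S) n,
      CommAlgDim.depth_congr ((IsLocalizedModule.iso p.asIdeal.primeCompl
          (Algebra.linearMap A (Localization.AtPrime p.asIdeal))).extendScalarsOfIsLocalization p.asIdeal.primeCompl _)]
  exact congrArg _ (ENat.eq_of_forall_natCast_le_iff hiff)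

theorem exists_minimal_covBy {p : PrimeSpectrum A} (hp : p.asIdeal.height = 1) :
    ∃ q : PrimeSpectrum A, q ⋖ p ∧ q.asIdeal ∈ minimalPrimes A := by
  haveI := p.isPrime
  obtain ⟨q, hq, hqp⟩ := Ideal.exists_minimalPrimes_le (show (⊥ : Ideal A) ≤ p.asIdeal from bot_le)
  haveI hqP : q.IsPrime := Ideal.minimalPrimes_isPrime hq
  have hq0 : q.height = 0 := Ideal.height_eq_zero_iff.2 hq
  refine ⟨⟨q, hqP⟩, ⟨lt_of_le_of_ne hqp fun h => ?_, fun c hc hcp => ?_⟩, hq⟩
  · exact absurd ((congrArg (fun r : PrimeSpectrum A => r.asIdeal.height) h).symm.trans hq0) (by rw [hp]; simp)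
  · haveI := c.isPrime
    have h1 := Ideal.height_add_one_le_of_lt_of_isPrime (show q < c.asIdeal from hc)
    have h2 := Ideal.height_add_one_le_of_lt_of_isPrime (show c.asIdeal < p.asIdeal from hcp)
    rw [hq0, zero_add] at h1
    rw [hp] at h2
    exact absurd ((add_le_add h1 le_rfl).trans h2) (by norm_num)

theorem exists_pow_kill_of_hyp (hd : ∃ ω : Dual.D A, Dual.IsDualizing A ω) {f : A}
    (hf : f ∈ IsLocalRing.maximalIdeal A)
    (hc : ((LocCoh.HasSk 2 (Localization.Away f) (Localization.Away f) ∧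
        ∀ p : Ideal A, p ∈ minimalPrimes A → f ∉ p → (3 : WithBot ℕ∞) ≤ ringKrullDim (A ⧸ p)) ∨
      (∀ p : Ideal A, ∀ _ : p.IsPrime, f ∉ p →
        (2 : WithBot ℕ∞) < (LocCoh.depth (Localization.AtPrime p) (Localization.AtPrime p) : WithBot ℕ∞) + ringKrullDim (A ⧸ p))))
    (i : ℕ) (hi : i ≤ 2) : ∃ n : ℕ, ∀ x : LocCoh.H (IsLocalRing.maximalIdeal A) i A, (f ^ n) • x = 0 := by
  obtain ⟨ω, hω⟩ := hd
  refine exists_pow_kill_of_depth hω f i fun p hp e δ he hed => ?_
  set d := LocCoh.depth (Localization.AtPrime p.asIdeal) (Localization.AtPrime p.asIdeal) with hd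
  rcases hc with ⟨hS, hdim⟩ | hc
  · have hm := min_height_le_depth hS p hp
    have he1 : 1 ≤ e := by
      by_contra h0
      have h0' : e = 0 := by omega
      rw [h0', ringKrullDim_quotient_eq hω p] at he
      have hle := (deg_strictMono hω).monotone (le_closedPt p)
      have h1 : (deg hω (closedPt A) - deg hω p).toNat = 0 := ENat.natCast_inj.1 (WithBot.coe_inj.1 he)
      have h2 : p = closedPt A := by
        by_contra hne
        have := deg_strictMono hω (lt_of_le_of_ne (le_closedPt p) hne)
        omega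
      exact hp (h2 ▸ hf)
    have h3 : ∀ k : ℕ, (min (2 : WithBot ℕ∞) (p.asIdeal.height : WithBot ℕ∞) = k) → (k : ℕ∞) ≤ d := fun k hk =>
      WithBot.coe_le_coe.1 (hk.symm.le.trans hm)
    rcases eq_or_ne p.asIdeal.height 0 with h0 | h0
    · have := hdim _ (Ideal.height_eq_zero_iff.1 h0) hp
      rw [he] at this
      have h3e : (3 : ℕ) ≤ e := by exact_mod_cast this
      omega
    rcases eq_or_ne p.asIdeal.height 1 with h1 | h1
    · obtain ⟨q, hqp, hq⟩ := exists_minimal_covBy h1
      have hfq : f ∉ q.asIdeal := fun h => hp (hqp.lt.le h)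
      have h4 := hdim _ hq hfq
      have hdeg := deg_covBy hω hqp
      rw [ringKrullDim_quotient_eq hω q] at h4
      rw [ringKrullDim_quotient_eq hω p] at he
      have h5 : (3 : ℕ) ≤ (deg hω (closedPt A) - deg hω q).toNat :=
        ENat.natCast_le_natCast.1 (WithBot.coe_le_coe.1
          (show (((3 : ℕ) : ℕ∞) : WithBot ℕ∞) ≤ _ from h4))
      have h6 : (deg hω (closedPt A) - deg hω p).toNat = e := ENat.natCast_inj.1 (WithBot.coe_inj.1 he)
      have h7 : δ = 0 := by omega
      subst h7
      exact h3 1 (by rw [h1]; norm_num)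
    · have h2 : (2 : ℕ∞) ≤ p.asIdeal.height := by
        have : (1 : ℕ∞) < p.asIdeal.height := lt_of_le_of_ne (Order.one_le_iff_ne_zero.2 h0) (Ne.symm h1)
        exact (Order.add_one_le_of_lt this)
      refine le_trans ?_ (h3 2 (by rw [min_eq_left]; · rfl
                                   exact WithBot.coe_le_coe.2 h2))
      exact_mod_cast (show δ + 1 ≤ 2 by omega)
  · have h := hc _ p.isPrime hp
    rw [he, ← hd] at h
    by_contra hlt
    rw [not_le] at hlt
    obtain ⟨k, hk⟩ := ENat.ne_top_iff_exists.1 (ne_top_of_lt hlt)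
    rw [← hk] at hlt h
    have h8 : k < δ + 1 := ENat.natCast_lt_natCast.1 hlt
    have h9 : 2 < k + e :=
      ENat.natCast_lt_natCast.1 (WithBot.coe_lt_coe.1
        (show (((2 : ℕ) : ℕ∞) : WithBot ℕ∞) < (((k + e : ℕ) : ℕ∞) : WithBot ℕ∞) from by
          rw [Nat.cast_add, WithBot.coe_add]; exact h))
    omega

end PunctLefLib
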